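import Cfsg.Agent.Lib.Lie.SplitRankOne.Final
import Cfsg.Agent.Lib.Fusion.StronglyEmbeddedPairs

/-!
Doubly transitive groups in which a point stabilizer has a nilpotent normal subgroup transitive on the other points,
and in which this subgroup contains the two-part of every two-point stabilizer: the basic lemmas.
-/

set_option autoImplicit false
set_option linter.unusedSectionVars false
set_option linter.unusedSimpArgs false
set_option linter.style.haveILetI false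

namespace Cfsg.Agent.Lie.R1C.Reg

open Cfsg MulAction

universe u v

/-- A nilpotent normal transitive subgroup of a point stabilizer containing the two-parts, with two independent
central involutions. -/
structure NR (G : Type u) (Ω : Type v) [Group G] [MulAction G Ω] (a b : Ω) (U : Subgroup G) : Prop where
  ne : a ≠ b
  pre : IsPretransitive G Ω
  le : U ≤ stabilizer G a
  normal : ∀ g ∈ stabilizer G a, ∀ u ∈ U, g * u * g⁻¹ ∈ U
  nil : Group.IsNilpotent U
  trans : ∀ c, c ≠ a → ∃ u ∈ U, u • b = c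
  two : ∀ x : G, x • a = a → x • b = b → ∀ k : ℕ, x ^ 2 ^ k = 1 → x ∈ U
  pair : ∃ z z' : G, z ∈ U ∧ z' ∈ U ∧ z * z = 1 ∧ z' * z' = 1 ∧ (∀ u ∈ U, z * u = u * z) ∧
    (∀ u ∈ U, z' * u = u * z') ∧ z • b ≠ b ∧ z' • b ≠ b ∧ z • b ≠ z' • b

/-- The central involutions and the identity. -/
def IsZ {G : Type u} [Group G] (U : Subgroup G) (x : G) : Prop := x ∈ U ∧ x * x = 1 ∧ ∀ u ∈ U, x * u = u * x

/-- The elements of `U` fixing `b`. -/
def rg {G : Type u} {Ω : Type v} [Group G] [MulAction G Ω] (U : Subgroup G) (b : Ω) : Subgroup G :=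
  U ⊓ stabilizer G b

variable {G : Type u} {Ω : Type v} [Group G] [MulAction G Ω] [Finite G] {a b : Ω} {U : Subgroup G}

/-- A finite subgroup mapped into itself is normalised. -/
theorem mem_nrm {H : Subgroup G} {g : G} (h : ∀ x ∈ H, g * x * g⁻¹ ∈ H) :
    g ∈ Subgroup.normalizer (H : Set G) := by
  refine Subgroup.mem_normalizer_iff.2 fun x => ⟨h x, fun hx => ?_⟩
  have hinj : Function.Injective (fun y : H => (⟨g * y * g⁻¹, h y y.2⟩ : H)) := fun y y' e => Subtype.ext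
    (mul_left_cancel (mul_right_cancel (congrArg Subtype.val e)))
  obtain ⟨y, hy⟩ := Finite.injective_iff_surjective.1 hinj ⟨_, hx⟩
  have : (y : G) = x := mul_left_cancel (mul_right_cancel (congrArg Subtype.val hy))
  exact this ▸ y.2

theorem nrm_conj {H : Subgroup G} {g : G} (hg : g ∈ Subgroup.normalizer (H : Set G)) {x : G} (hx : x ∈ H) :
    g * x * g⁻¹ ∈ H :=
  (Subgroup.mem_normalizer_iff.1 hg x).1 hx

theorem nrm_conj' {H : Subgroup G} {g : G} (hg : g ∈ Subgroup.normalizer (H : Set G)) {x : G} (hx : x ∈ H) :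
    g⁻¹ * x * g ∈ H := by
  have := nrm_conj (inv_mem hg) hx
  rwa [inv_inv] at this

theorem orderOf_two {x : G} (h1 : x ≠ 1) (h2 : x * x = 1) : orderOf x = 2 :=
  orderOf_eq_prime (by rw [pow_two]; exact h2) h1

/-- The stabilizer data of a subgroup on its orbit. -/
theorem coprime_mem {H N : Subgroup G} [(N.subgroupOf H).Normal] {x : G} (hx : x ∈ H) {i j : ℕ} (hij : i.Coprime j)
    (hi : x ^ i ∈ N) (hj : x ^ j ∈ N) : x ∈ N := by
  have h : ∀ n : ℕ, x ^ n ∈ N → (QuotientGroup.mk (⟨x, hx⟩ : H) : H ⧸ N.subgroupOf H) ^ n = 1 := by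
    intro n hn
    rw [← QuotientGroup.mk_pow, QuotientGroup.eq_one_iff, Subgroup.mem_subgroupOf]
    exact hn
  have h1 := Nat.eq_one_of_dvd_coprimes hij (orderOf_dvd_of_pow_eq_one (h i hi))
    (orderOf_dvd_of_pow_eq_one (h j hj))
  rwa [orderOf_eq_one_iff, QuotientGroup.eq_one_iff, Subgroup.mem_subgroupOf] at h1

variable (h : NR G Ω a b U)

include h

theorem fix_a {u : G} (hu : u ∈ U) : u • a = a := h.le hu

theorem ne_fix {c : Ω} (hc : c ≠ a) {g : G} (hg : g • a = a) : g • c ≠ a := fun e =>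
  hc (MulAction.injective g (e.trans hg.symm))

theorem conj_U {g : G} (hg : g • a = a) {u : G} (hu : u ∈ U) : g * u * g⁻¹ ∈ U := h.normal g hg u hu

theorem normal_subgroupOf : (U.subgroupOf (stabilizer G a)).Normal :=
  ⟨fun u hu g => h.normal g g.2 u hu⟩

theorem decomp {g : G} (hg : g • a = a) : ∃ u ∈ U, ∃ x : G, x • a = a ∧ x • b = b ∧ g = u * x := by
  obtain ⟨u, hu, e⟩ := h.trans (g • b) (ne_fix h h.ne.symm hg)
  refine ⟨u, hu, u⁻¹ * g, ?_, ?_, (mul_inv_cancel_left u g).symm⟩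
  · rw [mul_smul, hg, inv_smul_eq_iff, fix_a h hu]
  · rw [mul_smul, ← e, inv_smul_smul]

/-- Two-elements of the point stabilizer lie in `U`. -/
theorem two_mem {x : G} (hx : x • a = a) {k : ℕ} (hk : x ^ 2 ^ k = 1) : x ∈ U := by
  obtain ⟨u, hu, y, hya, hyb, rfl⟩ := decomp h hx
  haveI := normal_subgroupOf h
  refine mul_mem hu ?_
  have hyH : y ∈ stabilizer G a := hya
  have h2 : y ^ 2 ^ k ∈ U := by
    have h0 : (QuotientGroup.mk (⟨u * y, hx⟩ : stabilizer G a) : _ ⧸ U.subgroupOf (stabilizer G a)) =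
        QuotientGroup.mk ⟨y, hyH⟩ := by
      rw [QuotientGroup.eq_iff_div_mem, Subgroup.mem_subgroupOf]
      simpa [div_eq_mul_inv] using hu
    have h1 := congrArg (fun q => q ^ 2 ^ k) h0
    rw [← QuotientGroup.mk_pow, ← QuotientGroup.mk_pow, eq_comm,
      show (⟨u * y, hx⟩ : stabilizer G a) ^ 2 ^ k = 1 from Subtype.ext hk, QuotientGroup.mk_one,
      QuotientGroup.eq_one_iff, Subgroup.mem_subgroupOf] at h1
    exact h1
  obtain ⟨s, m, hm, e⟩ : ∃ s m, Odd m ∧ orderOf y = 2 ^ s * m := by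
    obtain ⟨s, m, hm, e⟩ := Nat.exists_eq_two_pow_mul_odd (orderOf_pos y).ne'
    exact ⟨s, m, hm, e⟩
  refine coprime_mem hyH (i := 2 ^ k) (j := m) (Nat.Coprime.pow_left _ (Nat.coprime_two_left.2 hm)) h2 ?_
  refine h.two _ ?_ ?_ s (by rw [← pow_mul, mul_comm, ← e, pow_orderOf_eq_one])
  · exact pow_mem hyH m
  · exact pow_mem (show y ∈ stabilizer G b from hyb) m

/-- An element of `U` that is central fixes all points as soon as it fixes one other point. -/
theorem fix_all {x : G} (hx : x ∈ U) (hc : ∀ u ∈ U, x * u = u * x) {c : Ω} (hca : c ≠ a) (hxc : x • c = c)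
    (d : Ω) : x • d = d := by
  by_cases hd : d = a
  · rw [hd, fix_a h hx]
  obtain ⟨u, hu, rfl⟩ := h.trans c hca
  obtain ⟨v, hv, rfl⟩ := h.trans d hd
  rw [smul_smul, show x * v = v * u⁻¹ * (x * u) by
    rw [hc u hu, mul_assoc v, inv_mul_cancel_left, ← hc v hv], mul_smul, ← smul_smul x, hxc, ← mul_smul,
    inv_mul_cancel_right]

theorem isZ_conj {x : G} (hx : IsZ U x) {g : G} (hg : g • a = a) : IsZ U (g * x * g⁻¹) := by
  refine ⟨conj_U h hg hx.1, ?_, fun u hu => ?_⟩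
  · rw [show g * x * g⁻¹ * (g * x * g⁻¹) = g * (x * x) * g⁻¹ by group, hx.2.1]; group
  · have h1 := hx.2.2 _ (conj_U h (g := g⁻¹) (inv_smul_eq_iff.2 hg.symm) hu)
    rw [inv_inv] at h1
    calc g * x * g⁻¹ * u = g * (x * (g⁻¹ * u * g)) * g⁻¹ := by group
      _ = g * (g⁻¹ * u * g * x) * g⁻¹ := by rw [h1]
      _ = u * (g * x * g⁻¹) := by group

theorem pair_trans {c d : Ω} (hcd : c ≠ d) : ∃ g : G, g • a = c ∧ g • b = d := by
  haveI := h.pre
  obtain ⟨g, hg⟩ := MulAction.exists_smul_eq G a c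
  obtain ⟨u, hu, e⟩ := h.trans (g⁻¹ • d) fun e => hcd (by rw [inv_smul_eq_iff] at e; rw [e, hg])
  exact ⟨g * u, by rw [mul_smul, fix_a h hu, hg], by rw [mul_smul, e, smul_inv_smul]⟩

theorem trans_R {c : Ω} (hc : c ≠ a) : ∃ u ∈ U, c = u • b := (h.trans c hc).imp fun _ hu => ⟨hu.1, hu.2.symm⟩

variable [FaithfulSMul G Ω]

/-- A central element fixing a second point is trivial. -/
theorem semireg {x : G} (hx : x ∈ U) (hc : ∀ u ∈ U, x * u = u * x) {c : Ω} (hca : c ≠ a) (hxc : x • c = c) :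
    x = 1 :=
  FaithfulSMul.eq_of_smul_eq_smul (α := Ω) fun d => by rw [fix_all h hx hc hca hxc d, one_smul]

theorem isZ_fix {x : G} (hx : IsZ U x) (hx1 : x ≠ 1) {c : Ω} (hxc : x • c = c) : c = a := by
  by_contra hca
  exact hx1 (semireg h hx.1 hx.2.2 hca hxc)

theorem exists_pair : ∃ z z' : G, IsZ U z ∧ IsZ U z' ∧ z ≠ 1 ∧ z' ≠ 1 ∧ z ≠ z' := by
  obtain ⟨z, z', hz, hz', hz2, hz'2, hzc, hz'c, h1, h2, h3⟩ := h.pair
  exact ⟨z, z', ⟨hz, hz2, hzc⟩, ⟨hz', hz'2, hz'c⟩, fun e => h1 (by rw [e, one_smul]),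
    fun e => h2 (by rw [e, one_smul]), fun e => h3 (by rw [e])⟩

/-- A conjugate of a central involution fixes only the image of the base point. -/
theorem conj_fix {x : G} (hx : IsZ U x) (hx1 : x ≠ 1) {g : G} {c : Ω} (hc : (g * x * g⁻¹) • c = c) : c = g • a := by
  rw [mul_smul, mul_smul, ← eq_inv_smul_iff] at hc
  rw [← isZ_fix h hx hx1 hc, smul_inv_smul]

theorem conj_isZ {x : G} (hx : IsZ U x) (hx1 : x ≠ 1) {g : G} (hga : (g * x * g⁻¹) • a = a) :
    IsZ U (g * x * g⁻¹) :=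
  isZ_conj h hx (conj_fix h hx hx1 hga).symm

/-- Conjugates of central involutions fixing different points have a product of odd order. -/
theorem odd_prod {z x : G} (hz : IsZ U z) (hz1 : z ≠ 1) (hx : IsZ U x) (hx1 : x ≠ 1) {g : G} (hg : g • a ≠ a) :
    Odd (orderOf (z * (g * x * g⁻¹))) := by
  obtain ⟨u, hu⟩ : ∃ u, u = g * x * g⁻¹ := ⟨_, rfl⟩
  rw [← hu]
  by_contra hev
  rw [Nat.not_odd_iff_even] at hev
  obtain ⟨m, hm⟩ := hev
  have hu2 : u * u = 1 := by
    rw [hu, show g * x * g⁻¹ * (g * x * g⁻¹) = g * (x * x) * g⁻¹ by group, hx.2.1]; group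
  have hzi : z⁻¹ = z := inv_eq_of_mul_eq_one_right hz.2.1
  have hui : u⁻¹ = u := inv_eq_of_mul_eq_one_right hu2
  obtain ⟨p, hp⟩ : ∃ p, p = z * u := ⟨_, rfl⟩
  rw [← hp] at hm
  obtain ⟨j, hj⟩ : ∃ j, j = p ^ m := ⟨_, rfl⟩
  have hpi : z * p * z⁻¹ = p⁻¹ := by
    rw [hp, mul_inv_rev, hzi, hui, ← mul_assoc, hz.2.1, one_mul]
  have hj2 : j * j = 1 := by rw [hj, ← pow_add, ← hm, pow_orderOf_eq_one]
  have hji : j⁻¹ = j := inv_eq_of_mul_eq_one_right hj2
  have hj1 : j ≠ 1 := fun e => by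
    have hpos := orderOf_pos p
    have := Nat.le_of_dvd (by omega) (orderOf_dvd_of_pow_eq_one (x := p) (n := m) (hj ▸ e))
    omega
  have hjz : z * j = j * z := by
    have h1 : z * j * z⁻¹ = j := by rw [hj, ← conj_pow, hpi, inv_pow, ← hj, hji]
    exact mul_inv_eq_iff_eq_mul.1 h1
  have hju : u * j = j * u := by
    rw [show u = z * p by rw [hp, ← mul_assoc, hz.2.1, one_mul]]
    rw [mul_assoc, show p * j = j * p by rw [hj, ← pow_succ', pow_succ], ← mul_assoc, hjz, mul_assoc]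
  have hja : j • a = a := isZ_fix h hz hz1 (by
    rw [smul_smul, hjz, mul_smul, fix_a h hz.1])
  have hjU : j ∈ U := two_mem h hja (k := 1) (by rw [pow_one, pow_two, hj2])
  -- `z * j` is conjugate to `z` or to `u`
  have hconj : ∀ i : ℕ, (p ^ i)⁻¹ * z * p ^ i = z * p ^ (2 * i) := by
    intro i
    have h1 : z * p ^ i * z⁻¹ = (p ^ i)⁻¹ := by rw [← conj_pow, hpi, inv_pow]
    rw [← h1, two_mul, pow_add]
    group
  obtain ⟨y, x', hx', hx'1, g', hy, hfix⟩ : ∃ (y : G) (x' : G), IsZ U x' ∧ x' ≠ 1 ∧ ∃ g' : G,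
      y = g' * x' * g'⁻¹ ∧ y = z * j := by
    rcases Nat.even_or_odd' m with ⟨i, hi | hi⟩
    · refine ⟨_, z, hz, hz1, (p ^ i)⁻¹, rfl, ?_⟩
      rw [inv_inv, hconj, hj, hi]
    · refine ⟨_, x, hx, hx1, (p ^ i)⁻¹ * g, rfl, ?_⟩
      rw [show (p ^ i)⁻¹ * g * x * ((p ^ i)⁻¹ * g)⁻¹ = (p ^ i)⁻¹ * (g * x * g⁻¹) * p ^ i by group, ← hu,
        show u = z * p by rw [hp, ← mul_assoc, hz.2.1, one_mul], ← mul_assoc, mul_assoc _ p, ← pow_succ',
        pow_succ, ← mul_assoc, hconj, mul_assoc, ← pow_succ, hj, hi]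
  have hya : y • a = a := by rw [hfix, mul_smul, hja, fix_a h hz.1]
  have hyZ : IsZ U y := hy ▸ conj_isZ h hx' hx'1 (hy ▸ hya)
  have hjZ : ∀ v ∈ U, j * v = v * j := fun v hv => by
    rw [show j = z * y by rw [hfix, ← mul_assoc, hz.2.1, one_mul], mul_assoc, hyZ.2.2 v hv, ← mul_assoc,
      hz.2.2 v hv, mul_assoc]
  refine hj1 (semireg h hjU hjZ hg ?_)
  refine conj_fix h hx hx1 (g := g) ?_
  rw [← hu, smul_smul, hju, mul_smul]
  congr 1
  rw [hu, mul_smul, mul_smul, inv_smul_smul, fix_a h hx.1]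

/-- The middle involution between conjugates of central involutions. -/
theorem exists_swap {z x : G} (hz : IsZ U z) (hz1 : z ≠ 1) (hx : IsZ U x) (hx1 : x ≠ 1) {g : G} (hg : g • a ≠ a) :
    ∃ w : G, w * w = 1 ∧ w * z * w⁻¹ = g * x * g⁻¹ ∧ w • a = g • a ∧ w • (g • a) = a ∧
      ∀ y : G, y * z = z * y → y * (g * x * g⁻¹) = g * x * g⁻¹ * y → y * w = w * y := by
  have hu : orderOf (g * x * g⁻¹) = 2 := Fusion.SEPairs.conj_involution (orderOf_two hx1 hx.2.1) g
  obtain ⟨w, hw, he, hc⟩ := Fusion.SEPairs.exists_middle (orderOf_two hz1 hz.2.1) hu (odd_prod h hz hz1 hx hx1 hg)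
  have hwa : w • a = g • a := conj_fix h hx hx1 (by
    rw [← he, mul_smul, mul_smul, inv_smul_smul, fix_a h hz.1])
  refine ⟨w, Fusion.SEPairs.sq_one hw, he, hwa, ?_, fun y hy hy' => hc y hy hy'⟩
  rw [← hwa, smul_smul, Fusion.SEPairs.sq_one hw, one_smul]

/-- An involution exchanging the two base points, with a conjugate central involution at `b`. -/
theorem exists_w : ∃ w z : G, IsZ U z ∧ z ≠ 1 ∧ w * w = 1 ∧ w • a = b ∧ w • b = a ∧
    ∀ y : G, y * z = z * y → y * (w * z * w⁻¹) = w * z * w⁻¹ * y → y * w = w * y := by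
  haveI := h.pre
  obtain ⟨z, -, hz, -, hz1, -⟩ := exists_pair h
  obtain ⟨g, hg⟩ := MulAction.exists_smul_eq G a b
  obtain ⟨w, hw, he, hwa, hwb, hc⟩ := exists_swap h hz hz1 hz hz1 (g := g) (by rw [hg]; exact h.ne.symm)
  rw [hg] at hwa hwb
  refine ⟨w, z, hz, hz1, hw, hwa, hwb, fun y hy hy' => hc y hy (he ▸ hy')⟩

omit [FaithfulSMul G Ω]

/-- The restriction to a subgroup transitive on an orbit. -/
theorem restrict {M : Subgroup G} {z z' : G} (hzM : z ∈ M) (hz'M : z' ∈ M) (hz : IsZ U z) (hz' : IsZ U z')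
    (h1 : z • b ≠ b) (h2 : z' • b ≠ b) (h3 : z • b ≠ z' • b) (hb : b ∈ orbit M a)
    (htr : ∀ g ∈ M, g • a ≠ a → ∃ u ∈ U, u ∈ M ∧ u • b = g • a) :
    NR M (orbit M a) ⟨a, mem_orbit_self a⟩ ⟨b, hb⟩ (U.subgroupOf M) := by
  have hcoe : ∀ (g : M) (c : orbit M a), ((g • c : orbit M a) : Ω) = (g : G) • (c : Ω) := fun _ _ => rfl
  refine ⟨fun e => h.ne (congrArg Subtype.val e), inferInstance, fun u hu => Subtype.ext (fix_a h hu),
    fun g hg u hu => conj_U h (congrArg Subtype.val hg) hu, ?_, fun c hc => ?_,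
    fun x hxa hxb k hk => h.two x (congrArg Subtype.val hxa) (congrArg Subtype.val hxb) k
      (congrArg Subtype.val hk), ?_⟩
  · haveI := h.nil
    exact Group.nilpotent_of_mulEquiv (G := M.subgroupOf U)
      { toFun := fun x => ⟨⟨((x : U) : G), x.2⟩, (x : U).2⟩
        invFun := fun x => ⟨⟨((x : M) : G), x.2⟩, (x : M).2⟩
        left_inv := fun _ => rfl
        right_inv := fun _ => rfl
        map_mul' := fun _ _ => rfl }
  · obtain ⟨g, hg⟩ := c.2
    obtain ⟨u, hu, huM, e⟩ := htr g g.2 fun e => hc (Subtype.ext (hg.symm.trans e))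
    exact ⟨⟨u, huM⟩, hu, Subtype.ext (e.trans hg)⟩
  · exact ⟨⟨z, hzM⟩, ⟨z', hz'M⟩, hz.1, hz'.1, Subtype.ext hz.2.1, Subtype.ext hz'.2.1,
      fun u hu => Subtype.ext (hz.2.2 _ hu), fun u hu => Subtype.ext (hz'.2.2 _ hu),
      fun e => h1 (congrArg Subtype.val e), fun e => h2 (congrArg Subtype.val e),
      fun e => h3 (congrArg Subtype.val e)⟩

/-- The image in the quotient by the kernel. -/
theorem quot :
    letI : MulAction (G ⧸ (toPermHom G Ω).ker) Ω := MulAction.compHom Ω (QuotientGroup.kerLift (toPermHom G Ω))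
    NR (G ⧸ (toPermHom G Ω).ker) Ω a b (U.map (QuotientGroup.mk' (toPermHom G Ω).ker)) := by
  letI : MulAction (G ⧸ (toPermHom G Ω).ker) Ω := MulAction.compHom Ω (QuotientGroup.kerLift (toPermHom G Ω))
  have hsm : ∀ (g : G) (c : Ω), (QuotientGroup.mk g : G ⧸ (toPermHom G Ω).ker) • c = g • c := fun _ _ => rfl
  haveI := h.pre
  refine ⟨h.ne, ⟨fun c d => ?_⟩, ?_, ?_, ?_, fun c hc => ?_, ?_, ?_⟩
  · obtain ⟨g, hg⟩ := MulAction.exists_smul_eq G c d
    exact ⟨QuotientGroup.mk g, (hsm g c).trans hg⟩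
  · rintro _ ⟨u, hu, rfl⟩
    exact (hsm u a).trans (fix_a h hu)
  · rintro g hg _ ⟨u, hu, rfl⟩
    obtain ⟨g, rfl⟩ := QuotientGroup.mk_surjective g
    exact ⟨g * u * g⁻¹, conj_U h ((hsm g a).symm.trans hg) hu, by simp⟩
  · haveI := h.nil
    exact Group.nilpotent_of_surjective ((QuotientGroup.mk' (toPermHom G Ω).ker).subgroupMap U)
      ((QuotientGroup.mk' (toPermHom G Ω).ker).subgroupMap_surjective U)
  · obtain ⟨u, hu, e⟩ := h.trans c hc
    exact ⟨_, ⟨u, hu, rfl⟩, (hsm u b).trans e⟩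
  · intro x hxa hxb k hk
    obtain ⟨x, rfl⟩ := QuotientGroup.mk_surjective x
    obtain ⟨s, m, hm, e⟩ := Nat.exists_eq_two_pow_mul_odd (orderOf_pos x).ne'
    have hxm : x ^ m ∈ U := h.two _ (pow_mem (show x ∈ stabilizer G a from (hsm x a).symm.trans hxa) m)
      (pow_mem (show x ∈ stabilizer G b from (hsm x b).symm.trans hxb) m) s
      (by rw [← pow_mul, mul_comm, ← e, pow_orderOf_eq_one])
    obtain ⟨i, hi⟩ := exists_pow_eq_self_of_coprime (x := (QuotientGroup.mk x : G ⧸ (toPermHom G Ω).ker))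
      (n := m) (Nat.Coprime.coprime_dvd_right (orderOf_dvd_of_pow_eq_one hk)
        (Nat.Coprime.pow_right _ (Nat.coprime_two_right.2 hm)))
    rw [← hi]
    exact pow_mem (Subgroup.mem_map.2 ⟨x ^ m, hxm, by simp⟩) i
  · obtain ⟨z, z', hz, hz', hz2, hz'2, hzc, hz'c, h1, h2, h3⟩ := h.pair
    refine ⟨QuotientGroup.mk z, QuotientGroup.mk z', ⟨z, hz, rfl⟩, ⟨z', hz', rfl⟩, ?_, ?_, ?_, ?_,
      fun e => h1 ((hsm z b).symm.trans e), fun e => h2 ((hsm z' b).symm.trans e),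
      fun e => h3 ((hsm z b).symm.trans (e.trans (hsm z' b)))⟩
    · rw [← QuotientGroup.mk_mul, hz2, QuotientGroup.mk_one]
    · rw [← QuotientGroup.mk_mul, hz'2, QuotientGroup.mk_one]
    · rintro _ ⟨u, hu, rfl⟩
      rw [QuotientGroup.mk'_apply, ← QuotientGroup.mk_mul, ← QuotientGroup.mk_mul, hzc u hu]
    · rintro _ ⟨u, hu, rfl⟩
      rw [QuotientGroup.mk'_apply, ← QuotientGroup.mk_mul, ← QuotientGroup.mk_mul, hz'c u hu]

/-- A regular instance is a rank-one set-up of two-rank at least two. -/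
theorem ctx [FaithfulSMul G Ω] (hreg : ∀ u ∈ U, u • b = b → u = 1) : ∃ w : G, w • a = b ∧ Ctx G Ω a w U := by
  obtain ⟨w, -, -, -, hw, hwa, -, -⟩ := exists_w h
  obtain ⟨z, z', hz, hz', hz1, hz'1, hne⟩ := exists_pair h
  have hw1 : w ≠ 1 := fun e => h.ne (by rw [← hwa, e, one_smul])
  haveI := h.pre
  refine ⟨w, hwa, setup_of_regular hw hw1 (by rw [hwa]; exact h.ne.symm) h.le h.normal
    (fun c hc => by rw [hwa]; exact h.trans c hc) (fun u hu e => hreg u hu (by rwa [hwa] at e)) ?_ ?_,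
    ⟨z, z', hz1, hz'1, hne, hz.2.1, hz'.2.1, hz.2.2 z' hz'.1⟩⟩
  · refine Nat.not_even_iff_odd.1 fun hev => ?_
    haveI := Fact.mk Nat.prime_two
    obtain ⟨⟨x, hx⟩, hx2⟩ := exists_prime_orderOf_dvd_card' 2 (even_iff_two_dvd.1 hev)
    rw [Subgroup.orderOf_mk] at hx2
    have hxb : x • b = b := hwa ▸ (Subgroup.mem_inf.1 hx).2
    have := hreg x (h.two x (Subgroup.mem_inf.1 hx).1 hxb 1 (by rw [pow_one, ← hx2, pow_orderOf_eq_one])) hxb
    rw [this, orderOf_one] at hx2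
    omega
  · refine even_iff_two_dvd.2 ((orderOf_two hz1 hz.2.1) ▸ Subgroup.orderOf_dvd_natCard _ ?_)
    exact fix_a h hz.1

end Cfsg.Agent.Lie.R1C.Reg
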