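import Cfsg.Agent.Lib.Lie.SplitRankOne.Regular.TwoGroup

/-!
Counting the points moved by a low involution of `rg U b`.
-/

set_option autoImplicit false
set_option linter.unusedSectionVars false
set_option linter.unusedSimpArgs false
set_option linter.style.haveILetI false

namespace Cfsg.Agent.Lie.R1C.Reg

open Cfsg MulAction

universe u v

/-- Arithmetic of the counting. -/
theorem count_arith {n Q m q g s μ : ℕ} (hQ : Q = 2 ^ s) (hm : m = 2 ^ μ) (hm2 : 2 ≤ m) (hn : n = Q * m + 1)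
    (hdvd : (Q + 1) * Q ∣ n * (Q * m)) (hle : Q * m ≤ Q + (Q + 1) * g * Q) (hg : g + 1 ≤ q) (hq : q ≤ Q) :
    Q = q ∧ g + 1 = q ∧ m = q ^ 2 := by
  subst hn hm hQ
  have hQpos : 0 < 2 ^ s := by positivity
  have h1 : 2 ^ s + 1 ∣ (2 ^ s * 2 ^ μ + 1) * 2 ^ μ := by
    obtain ⟨k, hk⟩ := hdvd
    exact ⟨k, Nat.eq_of_mul_eq_mul_left hQpos (by linarith)⟩
  have h2 : (2 ^ s + 1).Coprime 2 := by
    rw [Nat.coprime_two_right]
    refine Even.add_one ?_
    rcases Nat.eq_zero_or_pos s with rfl | hs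
    · simp only [pow_zero] at hq
      exfalso
      have h0 : g = 0 := by omega
      subst h0
      simp at hle
      omega
    · exact Nat.even_pow.2 ⟨even_two, by omega⟩
  have h1' := (Nat.Coprime.pow_right μ h2).dvd_of_dvd_mul_right h1
  have h3 : 2 ^ μ - 1 ≤ (2 ^ s + 1) * g := by
    have : 2 ^ s * (2 ^ μ - 1) ≤ 2 ^ s * ((2 ^ s + 1) * g) := by
      rw [Nat.mul_sub, mul_one]
      have e : (2 ^ s + 1) * g * 2 ^ s = 2 ^ s * ((2 ^ s + 1) * g) := by ring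
      omega
    exact Nat.le_of_mul_le_mul_left this hQpos
  have h4 : (2 ^ s) ^ 2 ≤ 2 ^ μ := by
    rw [← pow_mul]
    refine Nat.pow_le_pow_right (by norm_num) ?_
    by_contra hlt
    push Not at hlt
    have hZ : ((2 : ℤ) ^ s + 1) ∣ ((2 : ℤ) ^ s * 2 ^ μ + 1) := by exact_mod_cast h1'
    have h5 : ((2 : ℤ) ^ s + 1) ∣ (2 : ℤ) ^ μ - 1 := by
      have : (2 : ℤ) ^ μ - 1 = (2 : ℤ) ^ μ * (2 ^ s + 1) - (2 ^ s * 2 ^ μ + 1) := by ring
      rw [this]
      exact dvd_sub (dvd_mul_left _ _) hZ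
    rcases Nat.lt_or_ge s μ with hlt' | hge
    · obtain ⟨l, rfl⟩ : ∃ l, μ = s + l := ⟨μ - s, by omega⟩
      have h6 : ((2 : ℤ) ^ s + 1) ∣ (2 : ℤ) ^ l + 1 := by
        have : (2 : ℤ) ^ l + 1 = (2 : ℤ) ^ l * (2 ^ s + 1) - (2 ^ (s + l) - 1) := by rw [pow_add]; ring
        rw [this]
        exact dvd_sub (dvd_mul_left _ _) h5
      have h7 := Int.le_of_dvd (by positivity) h6
      have h8 : (2 : ℤ) ^ l < 2 ^ s := pow_lt_pow_right₀ (by norm_num) (by omega)
      linarith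
    · have h7 := Int.le_of_dvd (by
        have : (2 : ℤ) ≤ 2 ^ μ := by exact_mod_cast hm2
        linarith) h5
      have h8 : (2 : ℤ) ^ μ ≤ 2 ^ s := pow_le_pow_right₀ (by norm_num) hge
      linarith
  obtain ⟨A, hA⟩ : ∃ A, A = 2 ^ s := ⟨_, rfl⟩
  obtain ⟨B, hB⟩ : ∃ B, B = 2 ^ μ := ⟨_, rfl⟩
  have h3' : B - 1 ≤ (A + 1) * g := by rw [hA, hB]; exact h3
  have h4' : A ^ 2 ≤ B := by rw [hA, hB]; exact h4
  have hq' : q ≤ A := by rw [hA]; exact hq
  have hA1 : 1 ≤ A := by rw [hA]; exact hQpos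
  rw [← hA, ← hB]
  clear h1 h1' h2 h3 h4 hle hdvd hq hm2
  have h9 : (A + 1) * g ≤ (A + 1) * (q - 1) := Nat.mul_le_mul_left _ (by omega)
  have h10 : (A + 1) * (q - 1) ≤ (A + 1) * (A - 1) := Nat.mul_le_mul_left _ (by omega)
  have h11 : (A + 1) * (A - 1) + 1 = A ^ 2 := by
    obtain ⟨A', rfl⟩ : ∃ A', A = A' + 1 := ⟨A - 1, by omega⟩
    simp only [Nat.add_sub_cancel]; ring
  have e1 : (A + 1) * g = (A + 1) * (A - 1) := by omega
  have e2 := Nat.eq_of_mul_eq_mul_left (by omega : 0 < A + 1) e1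
  have hAq : A = q := by omega
  refine ⟨hAq, by omega, ?_⟩
  rw [← hAq]
  omega

section General

variable {G : Type u} {Ω : Type v} [Group G] [MulAction G Ω] [Finite G]

theorem ncard_orbit_mul (H : Subgroup G) (c : Ω) :
    (orbit H c).ncard * Nat.card ↥(H ⊓ stabilizer G c) = Nat.card H := by
  have e : Nat.card (stabilizer H c) = Nat.card ↥(H ⊓ stabilizer G c) :=
    Nat.card_congr
      { toFun := fun x => ⟨(x : H), (x : H).2, x.2⟩
        invFun := fun x => ⟨⟨x, x.2.1⟩, x.2.2⟩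
        left_inv := fun _ => rfl
        right_inv := fun _ => rfl }
  rw [← MulAction.index_stabilizer, ← e, mul_comm, Subgroup.card_mul_index]

/-- The middle of two involutions interchanged by a third element. -/
theorem middle_inv {u u' r : G} (hu : u * u = 1) (hu' : u' * u' = 1) (hodd : Odd (orderOf (u' * u)))
    (h1 : r * u * r⁻¹ = u') (h2 : r * u' * r⁻¹ = u) :
    ∃ i h : G, i * u * i⁻¹ = u' ∧ r * i * r⁻¹ = i ∧ i * i = 1 ∧ i = h * u * h⁻¹ := by
  obtain ⟨k, hk⟩ := hodd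
  obtain ⟨p, hp⟩ : ∃ p, p = u' * u := ⟨_, rfl⟩
  have hui : u⁻¹ = u := inv_eq_of_mul_eq_one_right hu
  have hu'i : u'⁻¹ = u' := inv_eq_of_mul_eq_one_right hu'
  have hup : ∀ n : ℕ, u * p ^ n * u⁻¹ = (p ^ n)⁻¹ := fun n => by
    rw [← conj_pow, ← inv_pow, hp, _root_.mul_inv_rev, hui, hu'i, mul_assoc, mul_assoc, hu, mul_one]
  have hpn : p ^ (2 * k + 1) = 1 := by rw [← hk, hp]; exact pow_orderOf_eq_one _
  have hnu : ∀ n : ℕ, p ^ n * u * (p ^ n)⁻¹ = p ^ (2 * n) * u := fun n => by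
    rw [← hup, two_mul, pow_add, hui]
    simp only [mul_assoc]
    rw [← mul_assoc u u, hu, one_mul]
  have hii : p ^ (k + 1) * u * (p ^ (k + 1) * u) = 1 := by
    calc p ^ (k + 1) * u * (p ^ (k + 1) * u) = p ^ (k + 1) * (u * p ^ (k + 1) * u⁻¹) * (u * u) := by group
      _ = 1 := by rw [hup, hu, mul_inv_cancel, mul_one]
  refine ⟨p ^ (k + 1) * u, p ^ ((k + 1) * (k + 1)), ?_, ?_, hii, ?_⟩
  · calc p ^ (k + 1) * u * u * (p ^ (k + 1) * u)⁻¹ = p ^ (k + 1) * u * (p ^ (k + 1))⁻¹ := by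
          rw [_root_.mul_inv_rev, hui, mul_assoc (p ^ (k + 1)) u u, hu, mul_one, mul_assoc]
      _ = p ^ (2 * k + 1 + 1) * u := by rw [hnu]; ring_nf
      _ = u' := by rw [pow_succ, hpn, one_mul, hp, mul_assoc, hu, mul_one]
  · have e1 : r * p * r⁻¹ = p⁻¹ := by
      rw [hp, _root_.mul_inv_rev, hui, hu'i, ← h1]
      calc r * (r * u * r⁻¹ * u) * r⁻¹ = r * (r * u * r⁻¹) * r⁻¹ * (r * u * r⁻¹) := by group
        _ = u * (r * u * r⁻¹) := by rw [h1, h2]
    calc r * (p ^ (k + 1) * u) * r⁻¹ = (r * p ^ (k + 1) * r⁻¹) * (r * u * r⁻¹) := by group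
      _ = (p ^ (k + 1))⁻¹ * u' := by rw [← conj_pow, e1, inv_pow, h1]
      _ = p ^ k * u' := by
        rw [inv_eq_of_mul_eq_one_left (show p ^ k * p ^ (k + 1) = 1 by rw [← pow_add, ← hpn]; ring_nf)]
      _ = p ^ k * (p * u) := by rw [hp, mul_assoc, hu, mul_one]
      _ = p ^ (k + 1) * u := by rw [pow_succ, mul_assoc]
  · rw [hnu, show 2 * ((k + 1) * (k + 1)) = k + 1 + (2 * k + 1) * (k + 1) by ring,
      pow_add p (k + 1) ((2 * k + 1) * (k + 1)), pow_mul, hpn, one_pow,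
      mul_one]

end General

variable {G : Type u} {Ω : Type v} [Group G] [MulAction G Ω] [Finite G] {a b : Ω} {U : Subgroup G}

/-- A low involution of `rg U b`. -/
def Low (U : Subgroup G) (b : Ω) (j : ℕ) (s : G) : Prop :=
  s ∈ rg U b ∧ s ∈ Zu U (j + 1) ∧ s * s = 1 ∧ s ≠ 1

/-- The setting of the counting. -/
structure KC (G : Type u) (Ω : Type v) [Group G] [MulAction G Ω] (a b : Ω) (U : Subgroup G) (w r : G) (j : ℕ) :
    Prop where
  nr : NR G Ω a b U
  faith : FaithfulSMul G Ω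
  ih : Triv.{u, v} (Nat.card G)
  two : IsPGroup 2 U
  w_sq : w * w = 1
  w_a : w • a = b
  w_b : w • b = a
  w_R : ∀ y ∈ rg U b, y * w = w * y
  level : rg U b ⊓ Zu U j = ⊥
  low : Low U b j r

/-- The normalizer of `rg U b` in `U`. -/
def n1 (U : Subgroup G) (b : Ω) : Subgroup G := U ⊓ Subgroup.normalizer (rg U b : Set G)

/-- The central involutions as a subgroup. -/
def zsub (U : Subgroup G) : Subgroup G where
  carrier := {x | IsZ U x}
  one_mem' := ⟨one_mem _, one_mul _, fun u _ => by rw [one_mul, mul_one]⟩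
  mul_mem' := fun {x y} hx hy => ⟨mul_mem hx.1 hy.1, by
    calc x * y * (x * y) = x * (y * x) * y := by group
      _ = x * (x * y) * y := by rw [hy.2.2 x hx.1]
      _ = 1 := by rw [← mul_assoc, hx.2.1, one_mul, hy.2.1], fun u hu => by
    rw [mul_assoc, hy.2.2 u hu, ← mul_assoc, hx.2.2 u hu, mul_assoc]⟩
  inv_mem' := fun {x} hx => by
    rw [inv_eq_of_mul_eq_one_right hx.2.1]; exact hx

theorem exists_KC (h : NR G Ω a b U) [hF : FaithfulSMul G Ω] (IH : Triv.{u, v} (Nat.card G)) (hR : rg U b ≠ ⊥) :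
    ∃ w r j, KC G Ω a b U w r j := by
  obtain ⟨w, z, hz, hz1, hw, hwa, hwb, hcw⟩ := exists_w h
  obtain ⟨j, hj, hj1⟩ := exists_level h hR
  have h2 := two_group h IH
  haveI := Fact.mk Nat.prime_two
  haveI : Nontrivial ↥(rg U b ⊓ Zu U (j + 1)) := (Subgroup.nontrivial_iff_ne_bot _).2 hj1
  have h2' : IsPGroup 2 ↥(rg U b ⊓ Zu U (j + 1)) := h2.to_le (inf_le_left.trans inf_le_left)
  obtain ⟨k, hk0, hk⟩ := h2'.nontrivial_iff_card.1 inferInstance
  obtain ⟨⟨r, hr⟩, hro⟩ := exists_prime_orderOf_dvd_card' (G := ↥(rg U b ⊓ Zu U (j + 1))) 2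
    (hk ▸ dvd_pow_self 2 hk0.ne')
  rw [Subgroup.orderOf_mk] at hro
  obtain ⟨hr1, hr2⟩ := Subgroup.mem_inf.1 hr
  exact ⟨w, r, j, h, hF, IH, h2, hw, hwa, hwb, fun y hy => comm_w h IH hz hz1 hw hwa hwb hcw hy, hj, hr1, hr2,
    by rw [← pow_two, ← hro, pow_orderOf_eq_one], fun e => by rw [e, orderOf_one] at hro; omega⟩

namespace KC

variable {w r : G} {j : ℕ} (k : KC G Ω a b U w r j)

include k

theorem fix_low {s : G} (hs : Low U b j s) {v : G} (hv : v ∈ U) (h : s • (v • b) = v • b) : s * v = v * s :=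
  rigid k.level hs.1 hs.2.1 hv ⟨U.mul_mem (U.mul_mem (U.inv_mem hv) hs.1.1) hv, by
    show (v⁻¹ * s * v) • b = b
    rw [mul_smul, mul_smul, h, inv_smul_smul]⟩

theorem nrm_cent {s : G} (hs : Low U b j s) {v : G} (hv : v ∈ n1 U b) : s * v = v * s :=
  rigid k.level hs.1 hs.2.1 (Subgroup.mem_inf.1 hv).1 (nrm_conj' (Subgroup.mem_inf.1 hv).2 hs.1)

theorem low_comm {s : G} (hs : Low U b j s) {y : G} (hy : y ∈ rg U b) : s * y = y * s :=
  k.nrm_cent hs (Subgroup.mem_inf.2 ⟨(Subgroup.mem_inf.1 hy).1, Subgroup.le_normalizer hy⟩)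

theorem cent_nrm {s : G} (hs : Low U b j s) {v : G} (hv : v ∈ U) (h : s * v = v * s) : v ∈ n1 U b := by
  haveI := k.faith
  haveI := k.nr.pre
  obtain ⟨M, hM⟩ : ∃ M, M = Subgroup.centralizer ({s} : Set G) := ⟨_, rfl⟩
  have hmem : ∀ x, x ∈ M ↔ s * x = x * s := fun x => by
    rw [hM, Subgroup.mem_centralizer_singleton_iff]; exact eq_comm
  have hMtop : M ≠ ⊤ := fun e => hs.2.2.2 (FaithfulSMul.eq_of_smul_eq_smul (α := Ω) fun c => by
    obtain ⟨g, rfl⟩ := MulAction.exists_smul_eq G a c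
    rw [one_smul, smul_smul, (hmem g).1 (e ▸ Subgroup.mem_top g), mul_smul, fix_a k.nr hs.1.1])
  have hw : w ∈ M := (hmem w).2 (k.w_R s hs.1)
  refine Subgroup.mem_inf.2 ⟨hv, ?_⟩
  have : v⁻¹ ∈ Subgroup.normalizer (rg U b : Set G) := mem_nrm fun y hy => by
    have h1 := step k.nr k.ih hMtop (fun x hx => (hmem x).2 (hx.2.2 s hs.1.1).symm) ⟨⟨w, hw⟩, k.w_a⟩
      (fun g hg hga => by
        obtain ⟨u, hu, e⟩ := k.nr.trans _ hga
        refine ⟨u, hu, (hmem u).2 (k.fix_low hs hu ?_), e⟩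
        rw [e, smul_smul, (hmem g).1 hg, mul_smul, fix_a k.nr hs.1.1]) hy
      ((hmem y).2 (k.low_comm hs hy)) (mul_mem ((hmem v).2 h) hw)
    rw [mul_smul, k.w_a] at h1
    rw [inv_inv]
    refine ⟨U.mul_mem (U.mul_mem (U.inv_mem hv) hy.1) hv, ?_⟩
    show (v⁻¹ * y * v) • b = b
    rw [mul_smul, mul_smul, h1, inv_smul_smul]
  simpa using inv_mem this

theorem fix_iff {s : G} (hs : Low U b j s) {c : Ω} (hc : c ≠ a) : s • c = c ↔ c ∈ orbit (n1 U b) b := by
  constructor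
  · intro h
    obtain ⟨v, hv, rfl⟩ := k.nr.trans c hc
    exact ⟨⟨v, k.cent_nrm hs hv (k.fix_low hs hv h)⟩, rfl⟩
  · rintro ⟨⟨v, hv⟩, rfl⟩
    show s • (v • b) = v • b
    rw [smul_smul, k.nrm_cent hs hv, mul_smul]
    exact congrArg _ (Subgroup.mem_inf.1 hs.1).2

theorem a_notMem : a ∉ orbit (n1 U b) b := by
  rintro ⟨⟨v, hv⟩, e⟩
  exact ne_fix k.nr k.nr.ne.symm (fix_a k.nr (Subgroup.mem_inf.1 hv).1) e

/-- The central involutions lie below the level. -/
theorem Z_low {e : G} (he : IsZ U e) : e ∈ Zu U j := by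
  haveI := k.faith
  rcases Nat.eq_zero_or_pos j with rfl | hj
  · exact absurd (semireg k.nr k.low.1.1 (Zu_one k.low.2.1) k.nr.ne.symm k.low.1.2) k.low.2.2.2
  · exact Zu_mono hj (Zu_center he.1 he.2.2)

/-- A translate of the low involution which fixes a second point is conjugate to it by that translation. -/
theorem conj_of_fix {e : G} (he : IsZ U e) {v : G} (hv : v ∈ U) (hfix : (r * e) • (v • b) = v • b) :
    v * r * v⁻¹ = r * e := by
  obtain ⟨s, hs⟩ : ∃ s, s = v⁻¹ * (r * e) * v := ⟨_, rfl⟩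
  have hsR : s ∈ rg U b := hs ▸ ⟨U.mul_mem (U.mul_mem (U.inv_mem hv) (mul_mem k.low.1.1 he.1)) hv, by
    show (v⁻¹ * (r * e) * v) • b = b
    rw [mul_smul, mul_smul, hfix, inv_smul_smul]⟩
  have h1 : r⁻¹ * s ∈ rg U b ⊓ Zu U j := by
    refine Subgroup.mem_inf.2 ⟨mul_mem (inv_mem k.low.1) hsR, ?_⟩
    have h2 := Zu_comm (inv_mem k.low.2.1) (inv_mem hv)
    rw [inv_inv, inv_inv] at h2
    rw [hs, show r⁻¹ * (v⁻¹ * (r * e) * v) = r⁻¹ * v⁻¹ * r * (e * v) by group, he.2.2 v hv,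
      ← mul_assoc]
    exact mul_mem h2 (k.Z_low he)
  rw [k.level, Subgroup.mem_bot, inv_mul_eq_one] at h1
  calc v * r * v⁻¹ = v * s * v⁻¹ := by rw [← h1]
    _ = r * e := by rw [hs]; group

theorem low_conj {e : G} (he : IsZ U e) {v : G} (hv : v ∈ U) (hfix : (r * e) • (v • b) = v • b) {c : Ω}
    (hc : c ≠ a) : (r * e) • c = c ↔ v⁻¹ • c ∈ orbit (n1 U b) b := by
  have hva : v⁻¹ • a = a := fix_a k.nr (inv_mem hv)
  rw [← k.conj_of_fix he hv hfix, ← k.fix_iff k.low (ne_fix k.nr hc hva), mul_smul, mul_smul,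
    ← eq_inv_smul_iff]

/-- The conclusions of the counting. -/
theorem count : (orbit (n1 U b) b).ncard = Nat.card (zsub U) ∧
    Nat.card U = Nat.card (zsub U) ^ 2 * Nat.card (n1 U b) ∧
    ∀ e, IsZ U e → ∃ v ∈ U, v * r * v⁻¹ = r * e := by
  classical
  haveI := k.faith
  haveI := k.nr.pre
  haveI : Finite Ω := Finite.of_surjective (fun g : G => g • a) fun c => MulAction.exists_smul_eq G a c
  haveI := Fact.mk Nat.prime_two
  obtain ⟨Q, hQdef⟩ : ∃ Q, Q = (orbit (n1 U b) b).ncard := ⟨_, rfl⟩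
  obtain ⟨q, hqdef⟩ : ∃ q, q = Nat.card (zsub U) := ⟨_, rfl⟩
  -- orders
  have hU : (orbit U b) = {a}ᶜ := by
    ext c
    constructor
    · rintro ⟨⟨v, hv⟩, rfl⟩ (e : v • b = a)
      exact ne_fix k.nr k.nr.ne.symm (fix_a k.nr hv) e
    · intro hc
      obtain ⟨v, hv, e⟩ := k.nr.trans c hc
      exact ⟨⟨v, hv⟩, e⟩
  have hn1 : n1 U b ⊓ stabilizer G b = rg U b := by
    refine le_antisymm (fun x hx => Subgroup.mem_inf.2 ⟨(Subgroup.mem_inf.1 (Subgroup.mem_inf.1 hx).1).1,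
      (Subgroup.mem_inf.1 hx).2⟩) fun x hx => ?_
    exact Subgroup.mem_inf.2 ⟨Subgroup.mem_inf.2 ⟨(Subgroup.mem_inf.1 hx).1, Subgroup.le_normalizer hx⟩,
      (Subgroup.mem_inf.1 hx).2⟩
  have hcN : Q * Nat.card (rg U b) = Nat.card (n1 U b) := by rw [hQdef, ← hn1]; exact ncard_orbit_mul _ _
  have hcU : (Nat.card Ω - 1) * Nat.card (rg U b) = Nat.card U := by
    rw [← ncard_orbit_mul U b, hU, Set.ncard_compl, Set.ncard_singleton]
    rfl
  obtain ⟨m, hm⟩ : ∃ m, Nat.card U = Nat.card (n1 U b) * m :=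
    Subgroup.card_dvd_of_le (inf_le_left : n1 U b ≤ U)
  have hRpos := Nat.card_pos (α := rg U b)
  have hQm : Nat.card Ω - 1 = Q * m := Nat.eq_of_mul_eq_mul_right hRpos (by
    rw [hcU, hm, ← hcN]; ring)
  have hΩpos : 0 < Nat.card Ω := by
    haveI : Nonempty Ω := ⟨a⟩
    exact Nat.card_pos
  obtain ⟨α, hα⟩ := k.two.exists_card_eq
  have hQ2 : ∃ s, Q = 2 ^ s := by
    obtain ⟨i, -, hi⟩ := (Nat.dvd_prime_pow Nat.prime_two).1
      (show Q ∣ 2 ^ α by rw [← hα, hm, ← hcN]; exact ⟨Nat.card (rg U b) * m, by ring⟩)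
    exact ⟨i, hi⟩
  have hm2 : ∃ μ, m = 2 ^ μ := by
    obtain ⟨i, -, hi⟩ := (Nat.dvd_prime_pow Nat.prime_two).1
      (show m ∣ 2 ^ α by rw [← hα, hm]; exact ⟨Nat.card (n1 U b), by ring⟩)
    exact ⟨i, hi⟩
  have hm1 : 2 ≤ m := by
    obtain ⟨μ, rfl⟩ := hm2
    rcases Nat.eq_zero_or_pos μ with rfl | hμ
    · exfalso
      have htop : n1 U b = U := Subgroup.eq_of_le_of_card_ge inf_le_left (by rw [hm]; simp)
      refine k.low.2.2.2 (semireg k.nr k.low.1.1 (fun v hv => ?_) k.nr.ne.symm k.low.1.2)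
      exact k.nrm_cent k.low (htop.symm ▸ hv)
    · exact (Nat.pow_le_pow_right (show 0 < 2 by norm_num) hμ).trans' (by norm_num)
  -- divisibility
  obtain ⟨M, hMdef⟩ : ∃ M, M = Subgroup.normalizer (rg U b : Set G) := ⟨_, rfl⟩
  have hwM : w ∈ M := hMdef ▸ mem_nrm fun y hy => by rw [← k.w_R y hy, mul_inv_cancel_right]; exact hy
  have hXM : stabilizer G a ⊓ stabilizer G b ≤ M := fun x hx => hMdef ▸ mem_nrm fun y hy =>
    rg_conj k.nr (Subgroup.mem_inf.1 hx).1 (Subgroup.mem_inf.1 hx).2 hy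
  have hMa : orbit M a = insert a (orbit (n1 U b) b) := by
    ext c
    constructor
    · rintro ⟨⟨g, hg⟩, rfl⟩
      show g • a ∈ _
      by_cases hga : g • a = a
      · exact Or.inl hga
      · subst hMdef
        obtain ⟨u, hu, huM, e⟩ := nrm_trans k.nr hg hga
        exact Or.inr ⟨⟨u, Subgroup.mem_inf.2 ⟨hu, huM⟩⟩, e⟩
    · rintro (rfl | ⟨⟨v, hv⟩, rfl⟩)
      · exact mem_orbit_self _
      · exact ⟨⟨v * w, mul_mem (hMdef ▸ (Subgroup.mem_inf.1 hv).2) hwM⟩, by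
          show (v * w) • a = v • b
          rw [mul_smul, k.w_a]⟩
  have hMab : orbit ↥(M ⊓ stabilizer G a) b = orbit (n1 U b) b := by
    ext c
    constructor
    · rintro ⟨⟨g, hg⟩, rfl⟩
      have hg' := Subgroup.mem_inf.1 hg
      show g • b ∈ _
      have h1 : (g * w) • a ≠ a := by rw [mul_smul, k.w_a]; exact ne_fix k.nr k.nr.ne.symm hg'.2
      subst hMdef
      obtain ⟨u, hu, huM, e⟩ := nrm_trans k.nr (mul_mem hg'.1 hwM) h1
      rw [mul_smul, k.w_a] at e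
      exact ⟨⟨u, Subgroup.mem_inf.2 ⟨hu, huM⟩⟩, e⟩
    · rintro ⟨⟨v, hv⟩, rfl⟩
      exact ⟨⟨v, Subgroup.mem_inf.2 ⟨hMdef ▸ (Subgroup.mem_inf.1 hv).2, fix_a k.nr (Subgroup.mem_inf.1 hv).1⟩⟩, rfl⟩
  have hdvd : (Q + 1) * Q ∣ (Q * m + 1) * (Q * m) := by
    have h1 := Subgroup.card_subgroup_dvd_card M
    rw [← ncard_orbit_mul M a, hMa, Set.ncard_insert_of_notMem k.a_notMem, ← hQdef,
      ← ncard_orbit_mul (M ⊓ stabilizer G a) b, hMab, ← hQdef,
      show M ⊓ stabilizer G a ⊓ stabilizer G b = stabilizer G a ⊓ stabilizer G b by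
        rw [inf_assoc, inf_eq_right.2 hXM]] at h1
    have h2 : Nat.card G = (Q * m + 1) * (Q * m * Nat.card ↥(stabilizer G a ⊓ stabilizer G b)) := by
      have e1 := ncard_orbit_mul (⊤ : Subgroup G) a
      rw [top_inf_eq, Subgroup.card_top, show orbit (⊤ : Subgroup G) a = Set.univ from
        Set.eq_univ_of_forall fun c => by
          obtain ⟨g, hg⟩ := MulAction.exists_smul_eq G a c
          exact ⟨⟨g, Subgroup.mem_top g⟩, hg⟩, Set.ncard_univ] at e1
      have e2 := ncard_orbit_mul (stabilizer G a) b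
      rw [show orbit (stabilizer G a) b = {a}ᶜ from ?_, Set.ncard_compl, Set.ncard_singleton] at e2
      · rw [← e1, ← e2, hQm, show Nat.card Ω = Q * m + 1 by omega]
      · ext c
        constructor
        · rintro ⟨⟨g, hg⟩, rfl⟩ (e : g • b = a)
          exact ne_fix k.nr k.nr.ne.symm hg e
        · intro hc
          obtain ⟨v, hv, e⟩ := k.nr.trans c hc
          exact ⟨⟨v, fix_a k.nr hv⟩, e⟩
    rw [h2, show (Q + 1) * (Q * Nat.card ↥(stabilizer G a ⊓ stabilizer G b)) =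
      (Q + 1) * Q * Nat.card ↥(stabilizer G a ⊓ stabilizer G b) by ring,
      show (Q * m + 1) * (Q * m * Nat.card ↥(stabilizer G a ⊓ stabilizer G b)) =
      (Q * m + 1) * (Q * m) * Nat.card ↥(stabilizer G a ⊓ stabilizer G b) by ring] at h1
    exact Nat.dvd_of_mul_dvd_mul_right Nat.card_pos h1
  -- the central involutions embed in the orbit
  have hqQ : q ≤ Q := by
    rw [hqdef, hQdef, ← Nat.card_coe_set_eq]
    refine Nat.card_le_card_of_injective (fun e : zsub U => (⟨(e : G) • b,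
      ⟨⟨e, Subgroup.mem_inf.2 ⟨e.2.1, isZ_nrm k.nr e.2⟩⟩, rfl⟩⟩ : orbit (n1 U b) b)) fun e e' he => ?_
    have h1 : (e' : G)⁻¹ * e ∈ zsub U := mul_mem (inv_mem e'.2) e.2
    have h2 := semireg k.nr h1.1 h1.2.2 k.nr.ne.symm (c := b) (by
      rw [mul_smul, show (e : G) • b = (e' : G) • b from congrArg Subtype.val he, inv_smul_smul])
    exact Subtype.ext (inv_mul_eq_one.1 h2).symm
  -- the moved points
  let E : G → Set Ω := fun e => {d | d ≠ a ∧ (r * e) • d = d}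
  let Good : Set G := {e | IsZ U e ∧ e ≠ 1 ∧ (E e).Nonempty}
  have hEle : ∀ e : Good, (E e).ncard ≤ Q := by
    rintro ⟨e, he, -, d, hda, hd⟩
    obtain ⟨v, hv, rfl⟩ := k.nr.trans d hda
    rw [hQdef, ← Set.ncard_image_of_injective (orbit (n1 U b) b) (MulAction.injective v)]
    refine Set.ncard_le_ncard (fun c hc => ⟨v⁻¹ • c, (k.low_conj he hv hd hc.1).1 hc.2, smul_inv_smul v c⟩)
      (Set.toFinite _)
  obtain ⟨F, hF⟩ : ∃ F : Set Ω, F = insert a (orbit (n1 U b) b) := ⟨_, rfl⟩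
  have hFfix : ∀ c, r • c = c ↔ c ∈ F := fun c => by
    subst hF
    by_cases hc : c = a
    · subst hc
      exact iff_of_true (fix_a k.nr k.low.1.1) (Set.mem_insert _ _)
    · rw [k.fix_iff k.low hc]
      exact ⟨Or.inr, fun h => h.resolve_left hc⟩
  have hgc : ∀ c : F, ∃ g : G, r * g = g * r ∧ g • (c : Ω) = a := by
    rintro ⟨c, hc⟩
    subst hF
    rcases hc with rfl | ⟨⟨v, hv⟩, rfl⟩
    · exact ⟨1, by simp, one_smul _ _⟩
    · refine ⟨w * v⁻¹, ?_, by show (w * v⁻¹) • (v • b) = a; rw [mul_smul, inv_smul_smul, k.w_b]⟩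
      have h1 : Commute r v⁻¹ := (show Commute r v from k.nrm_cent k.low hv).inv_right
      exact (Commute.mul_right (show Commute r w from k.w_R r k.low.1) h1).eq
  choose gc hgc1 hgc2 using hgc
  let Tgt := Σ _ : F, Σ e : Good, E e
  haveI : Finite Tgt := inferInstance
  have hmap : ∀ d : {d : Ω // r • d ≠ d}, ∃ x : Tgt, (gc x.1)⁻¹ • (x.2.2 : Ω) = d := by
    rintro ⟨d, hd⟩
    obtain ⟨z, -, hz, -, hz1, -⟩ := exists_pair k.nr
    obtain ⟨g, hg⟩ := MulAction.exists_smul_eq G a d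
    obtain ⟨u, hu⟩ : ∃ u, u = g * z * g⁻¹ := ⟨_, rfl⟩
    have hri : r⁻¹ = r := inv_eq_of_mul_eq_one_right k.low.2.2.1
    have hu2 : u * u = 1 := by
      rw [hu, show g * z * g⁻¹ * (g * z * g⁻¹) = g * (z * z) * g⁻¹ by group, hz.2.1]; group
    have hru2 : r * u * r⁻¹ * (r * u * r⁻¹) = 1 := by
      rw [show r * u * r⁻¹ * (r * u * r⁻¹) = r * (u * u) * r⁻¹ by group, hu2]; group
    have hodd : Odd (orderOf (r * u * r⁻¹ * u)) := by
      have h1 := odd_prod k.nr hz hz1 hz hz1 (g := g⁻¹ * r * g) (by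
        rw [mul_smul, mul_smul, hg, ne_eq, inv_smul_eq_iff, hg]; exact hd)
      have e : r * u * r⁻¹ * u = MulAut.conj (r * g) (z * (g⁻¹ * r⁻¹ * g * z * (g⁻¹ * r⁻¹ * g)⁻¹)) := by
        rw [MulAut.conj_apply, hu]; group
      rw [e, MulEquiv.orderOf_eq, hri]
      exact h1
    obtain ⟨i, h, hie, hir, hi2, hih⟩ := middle_inv hu2 hru2 hodd rfl (by
      rw [hri]
      simp only [← mul_assoc, k.low.2.2.1, one_mul]
      rw [mul_assoc, k.low.2.2.1, mul_one])
    obtain ⟨c, hc⟩ : ∃ c, c = (h * g) • a := ⟨_, rfl⟩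
    have hiconj : i = h * g * z * (h * g)⁻¹ := by rw [hih, hu]; group
    have hic : i • c = c := by rw [hiconj, hc, mul_smul, mul_smul, inv_smul_smul, fix_a k.nr hz.1]
    have hrc : r • c = c := by
      have h1 : i • (r • c) = r • c := by
        rw [smul_smul, show i * r = r * i from (mul_inv_eq_iff_eq_mul.1 hir).symm, mul_smul, hic]
      rw [hiconj] at h1
      exact (conj_fix k.nr hz hz1 h1).trans hc.symm
    obtain ⟨c', hc'⟩ : ∃ c' : F, (c' : Ω) = c := ⟨⟨c, (hFfix c).1 hrc⟩, rfl⟩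
    have hid : i • d = r • d := by
      have h1 : (r * g * z * (r * g)⁻¹) • (i • d) = i • d := by
        rw [show r * g * z * (r * g)⁻¹ = r * (g * z * g⁻¹) * r⁻¹ by group, ← hu, ← hie, mul_smul, mul_smul,
          inv_smul_smul]
        congr 1
        rw [hu, mul_smul, mul_smul, ← hg, inv_smul_smul, fix_a k.nr hz.1]
      rw [conj_fix k.nr hz hz1 h1, mul_smul, hg]
    obtain ⟨e, he⟩ : ∃ e, e = gc c' * i * (gc c')⁻¹ := ⟨_, rfl⟩
    have hea : e • a = a := by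
      rw [he, mul_smul, mul_smul, inv_smul_eq_iff.2 (hgc2 c').symm, hc', hic, ← hc', hgc2]
    have heZ : IsZ U e := by
      have e1 : e = gc c' * (h * g) * z * (gc c' * (h * g))⁻¹ := by rw [he, hiconj]; group
      rw [e1] at hea ⊢
      exact conj_isZ k.nr hz hz1 hea
    have he1 : e ≠ 1 := fun e0 => by
      rw [he, conj_eq_one_iff, hiconj, conj_eq_one_iff] at e0
      exact hz1 e0
    have hd' : gc c' • d ∈ E e := by
      refine ⟨fun e0 => hd ?_, ?_⟩
      · rw [show d = c by rw [← hc']; exact MulAction.injective _ (e0.trans (hgc2 c').symm)]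
        exact hrc
      · rw [he, show r * (gc c' * i * (gc c')⁻¹) = r * gc c' * i * (gc c')⁻¹ by group, hgc1, mul_smul,
          inv_smul_smul, mul_smul, mul_smul, hid, smul_smul r r, k.low.2.2.1, one_smul]
    exact ⟨⟨c', ⟨e, heZ, he1, ⟨_, hd'⟩⟩, ⟨_, hd'⟩⟩, inv_smul_smul _ _⟩
  choose f hf using hmap
  have hfinj : Function.Injective f := fun d d' e => Subtype.ext (by rw [← hf d, ← hf d', e])
  have hFcard : Nat.card F = Q + 1 := by
    rw [Nat.card_coe_set_eq, hF, Set.ncard_insert_of_notMem k.a_notMem, hQdef]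
  have hbound : Nat.card Ω - (Q + 1) ≤ (Q + 1) * Nat.card Good * Q := by
    have h1 : Nat.card {d : Ω // r • d ≠ d} = Nat.card Ω - (Q + 1) := by
      rw [← hFcard, Nat.card_coe_set_eq, ← Set.ncard_compl, ← Nat.card_coe_set_eq]
      exact Nat.card_congr (Equiv.subtypeEquivRight fun d => not_congr (hFfix d))
    rw [← h1]
    refine (Nat.card_le_card_of_injective f hfinj).trans ?_
    haveI := Fintype.ofFinite F
    haveI := Fintype.ofFinite Good
    rw [Nat.card_sigma, Finset.sum_congr rfl fun c _ => Nat.card_sigma, Finset.sum_const, Finset.card_univ,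
      ← Nat.card_eq_fintype_card, hFcard, smul_eq_mul, mul_assoc]
    refine Nat.mul_le_mul_left _ ((Finset.sum_le_sum fun e _ => ?_).trans_eq (by
      rw [Finset.sum_const, Finset.card_univ, ← Nat.card_eq_fintype_card, smul_eq_mul]))
    rw [Nat.card_coe_set_eq]
    exact hEle e
  have hGood : Nat.card Good + 1 ≤ q := by
    have hsub : insert 1 Good ⊆ (zsub U : Set G) := Set.insert_subset (one_mem _) fun e he => he.1
    have h1 := Set.ncard_le_ncard hsub (Set.toFinite _)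
    rw [Set.ncard_insert_of_notMem (fun h => h.2.1 rfl) (Set.toFinite _), ← Nat.card_coe_set_eq,
      ← Nat.card_coe_set_eq] at h1
    exact hqdef ▸ h1
  obtain ⟨s, hs⟩ := hQ2
  obtain ⟨μ, hμ⟩ := hm2
  obtain ⟨hQq, hgq, hmq⟩ := count_arith hs hμ hm1 (n := Q * m + 1) rfl hdvd
    (g := Nat.card Good) (by omega) hGood hqQ
  refine ⟨by rw [← hQdef, ← hqdef, hQq], by rw [hm, hmq, hqdef]; ring, fun e he => ?_⟩
  by_cases he1 : e = 1
  · exact ⟨1, one_mem _, by rw [he1]; simp⟩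
  have heG : e ∈ Good := by
    have hsub : insert 1 Good ⊆ (zsub U : Set G) := Set.insert_subset (one_mem _) fun e he => he.1
    have h1 := Set.eq_of_subset_of_ncard_le hsub (by
      rw [Set.ncard_insert_of_notMem (fun h => h.2.1 rfl) (Set.toFinite _), ← Nat.card_coe_set_eq,
        ← Nat.card_coe_set_eq]
      show Nat.card (zsub U) ≤ _
      omega) (Set.toFinite _)
    exact (Set.mem_insert_iff.1 ((Set.ext_iff.1 h1 e).2 he)).resolve_left he1
  obtain ⟨d, hda, hd⟩ := heG.2.2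
  obtain ⟨v, hv, rfl⟩ := k.nr.trans d hda
  exact ⟨v, hv, k.conj_of_fix he hv hd⟩

end KC

end Cfsg.Agent.Lie.R1C.Reg
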