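import Cfsg.Agent.Lib.Lie.SplitRankOne.Regular.Basic

/-!
The elements of `U` fixing two points commute with the involution exchanging them.
-/

set_option autoImplicit false
set_option linter.unusedSectionVars false
set_option linter.unusedSimpArgs false
set_option linter.style.haveILetI false

namespace Cfsg.Agent.Lie.R1C.Reg

open Cfsg MulAction
open scoped commutatorElement

universe u v

/-- In all smaller instances the elements of `U` fixing `b` act trivially. -/
def Triv (n : ℕ) : Prop :=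
  ∀ (G : Type u) (Ω : Type v) [Group G] [Finite G] [MulAction G Ω] (a b : Ω) (U : Subgroup G),
    Nat.card G < n → NR G Ω a b U → ∀ u ∈ U, u • b = b → ∀ c : Ω, u • c = c

/-- The upper central series of `U` in the ambient group. -/
def Zu {G : Type u} [Group G] (U : Subgroup G) (j : ℕ) : Subgroup G :=
  (Subgroup.upperCentralSeries U j).map U.subtype

section Zu

variable {G : Type u} [Group G] {U : Subgroup G}

theorem Zu_le (j : ℕ) : Zu U j ≤ U := Subgroup.map_subtype_le _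

theorem Zu_zero : Zu U 0 = ⊥ := by rw [Zu, Subgroup.upperCentralSeries_zero, Subgroup.map_bot]

theorem Zu_mono {i j : ℕ} (hij : i ≤ j) : Zu U i ≤ Zu U j :=
  Subgroup.map_mono (Subgroup.upperCentralSeries_mono U hij)

theorem Zu_comm {j : ℕ} {x v : G} (hx : x ∈ Zu U (j + 1)) (hv : v ∈ U) : x * v * x⁻¹ * v⁻¹ ∈ Zu U j := by
  obtain ⟨x, hx, rfl⟩ := hx
  exact ⟨_, (Subgroup.mem_upperCentralSeries_succ_iff.1 hx) ⟨v, hv⟩, by simp [commutatorElement_def]⟩

theorem Zu_top (hnil : Group.IsNilpotent U) : ∃ n, Zu U n = U := by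
  obtain ⟨n, hn⟩ := hnil.nilpotent
  exact ⟨n, by rw [Zu, hn, ← MonoidHom.range_eq_map, Subgroup.range_subtype]⟩

theorem Zu_center {x : G} (hx : x ∈ U) (hc : ∀ u ∈ U, x * u = u * x) : x ∈ Zu U 1 := by
  rw [Zu, Subgroup.upperCentralSeries_one]
  exact ⟨⟨x, hx⟩, Subgroup.mem_center_iff.2 fun u => Subtype.ext (hc u u.2).symm, rfl⟩

theorem Zu_one {x : G} (hx : x ∈ Zu U 1) : ∀ u ∈ U, x * u = u * x := fun u hu => by
  rw [Zu, Subgroup.upperCentralSeries_one] at hx
  obtain ⟨x, hx, rfl⟩ := hx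
  exact (congrArg Subtype.val (Subgroup.mem_center_iff.1 hx ⟨u, hu⟩)).symm

end Zu

variable {G : Type u} {Ω : Type v} [Group G] [MulAction G Ω] [Finite G] {a b : Ω} {U : Subgroup G}
  (h : NR G Ω a b U)

include h

theorem Zu_conj {j : ℕ} {x g : G} (hx : x ∈ Zu U j) (hg : g • a = a) : g * x * g⁻¹ ∈ Zu U j := by
  obtain ⟨x, hx, rfl⟩ := hx
  let e : MulAut U := conjSub U g fun y hy => conj_U h hg hy
  exact ⟨e x, Subgroup.characteristic_iff_map_eq.1 (inferInstance : (Subgroup.upperCentralSeries U j).Characteristic) e ▸ Subgroup.mem_map_of_mem _ hx, rfl⟩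

/-- The first level of the upper central series meeting `rg U b`. -/
theorem exists_level (hR : rg U b ≠ ⊥) : ∃ j, rg U b ⊓ Zu U j = ⊥ ∧ rg U b ⊓ Zu U (j + 1) ≠ ⊥ := by
  classical
  obtain ⟨n, hn⟩ := Zu_top h.nil
  have hex : ∃ i, rg U b ⊓ Zu U i ≠ ⊥ := ⟨n, by rwa [hn, inf_eq_left.2 (show rg U b ≤ U from inf_le_left)]⟩
  obtain ⟨i, hi⟩ : ∃ i, Nat.find hex = i + 1 := by
    refine Nat.exists_eq_succ_of_ne_zero fun e => ?_
    have := Nat.find_spec hex
    rw [e, Zu_zero, inf_bot_eq] at this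
    exact this rfl
  exact ⟨i, not_not.1 (Nat.find_min hex (show i < Nat.find hex by omega)), hi ▸ Nat.find_spec hex⟩

omit h in
/-- Conjugation inside `rg U b` at the first level is trivial. -/
theorem rigid {j : ℕ} (hj : rg U b ⊓ Zu U j = ⊥) {y v : G} (hy : y ∈ rg U b) (hyj : y ∈ Zu U (j + 1)) (hv : v ∈ U)
    (hyv : v⁻¹ * y * v ∈ rg U b) : y * v = v * y := by
  have h1 : y⁻¹ * (v⁻¹ * y * v) ∈ rg U b ⊓ Zu U j := by
    refine ⟨(rg U b).mul_mem ((rg U b).inv_mem hy) hyv, ?_⟩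
    have := Zu_comm (inv_mem hyj) (inv_mem hv)
    rw [inv_inv, inv_inv] at this
    rwa [← mul_assoc, ← mul_assoc]
  rw [hj, Subgroup.mem_bot, inv_mul_eq_one] at h1
  conv_rhs => rw [h1]
  group

variable [FaithfulSMul G Ω]

/-- The number of points is odd. -/
theorem odd_points : Odd (Nat.card Ω) := by
  classical
  haveI := h.pre
  haveI : Finite Ω := Finite.of_surjective (fun g : G => g • a) fun c => MulAction.exists_smul_eq G a c
  haveI := Fintype.ofFinite Ω
  haveI := Fact.mk Nat.prime_two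
  obtain ⟨z, -, hz, -, hz1, -⟩ := exists_pair h
  rw [Nat.card_eq_fintype_card]
  refine Nat.not_even_iff_odd.1 fun hev => ?_
  obtain ⟨c, hc, hca⟩ := Equiv.Perm.exists_fixed_point_of_prime' (p := 2) (n := 1) (even_iff_two_dvd.1 hev)
    (σ := MulAction.toPerm z)
    (Equiv.ext fun c => by
      rw [pow_one, pow_two, Equiv.Perm.mul_apply, MulAction.toPerm_apply, MulAction.toPerm_apply, smul_smul,
        hz.2.1, one_smul, Equiv.Perm.one_apply]) (a := a) (fix_a h hz.1)
  exact hca (isZ_fix h hz hz1 hc)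

theorem invol_fix {x : G} (hx : x * x = 1) : ∃ c : Ω, x • c = c := by
  classical
  haveI := h.pre
  haveI : Finite Ω := Finite.of_surjective (fun g : G => g • a) fun c => MulAction.exists_smul_eq G a c
  haveI := Fintype.ofFinite Ω
  haveI := Fact.mk Nat.prime_two
  exact Equiv.Perm.exists_fixed_point_of_prime (p := 2) (n := 1)
    (fun h2 => Nat.not_even_iff_odd.2 (odd_points h) (even_iff_two_dvd.2 (by rwa [Nat.card_eq_fintype_card])))
    (σ := MulAction.toPerm x) (Equiv.ext fun c => by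
      rw [pow_one, pow_two, Equiv.Perm.mul_apply, MulAction.toPerm_apply, MulAction.toPerm_apply, smul_smul,
        hx, one_smul, Equiv.Perm.one_apply])

/-- The induction step. -/
theorem step (IH : Triv.{u, v} (Nat.card G)) {M : Subgroup G} (hM : M ≠ ⊤) (hZ : ∀ x, IsZ U x → x ∈ M)
    (hb : b ∈ orbit M a) (htr : ∀ g ∈ M, g • a ≠ a → ∃ u ∈ U, u ∈ M ∧ u • b = g • a) {y : G} (hy : y ∈ rg U b)
    (hyM : y ∈ M) {g : G} (hg : g ∈ M) : y • (g • a) = g • a := by
  obtain ⟨z, z', hz, hz', hz1, hz'1, hne⟩ := exists_pair h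
  have hlt : Nat.card M < Nat.card G :=
    lt_of_le_of_ne (Nat.le_of_dvd Nat.card_pos (Subgroup.card_subgroup_dvd_card _))
      fun e => hM (Subgroup.eq_top_of_card_eq _ e)
  have h3 : z • b ≠ z' • b := fun e => hne (by
    have hz'i : z'⁻¹ = z' := inv_eq_of_mul_eq_one_right hz'.2.1
    have := semireg h (mul_mem (inv_mem hz'.1) hz.1) (fun u hu => by
      rw [mul_assoc, hz.2.2 u hu, ← mul_assoc, hz'i, hz'.2.2 u hu, mul_assoc]) h.ne.symm (c := b)
      (by rw [mul_smul, e, inv_smul_smul])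
    exact (inv_mul_eq_one.1 this).symm)
  have hN := restrict h (hZ z hz) (hZ z' hz') hz hz' (fun e => hz1 (semireg h hz.1 hz.2.2 h.ne.symm e))
    (fun e => hz'1 (semireg h hz'.1 hz'.2.2 h.ne.symm e)) h3 hb htr
  exact congrArg Subtype.val (IH M (orbit M a) _ _ _ hlt hN ⟨y, hyM⟩ hy.1 (Subtype.ext hy.2)
    ⟨g • a, mem_orbit a (⟨g, hg⟩ : M)⟩)

omit [FaithfulSMul G Ω] in
theorem rg_conj {g : G} (hga : g • a = a) (hgb : g • b = b) {y : G} (hy : y ∈ rg U b) : g * y * g⁻¹ ∈ rg U b :=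
  ⟨conj_U h hga hy.1, by
    show (g * y * g⁻¹) • b = b
    rw [mul_smul, mul_smul, inv_smul_eq_iff.2 hgb.symm, show y • b = b from hy.2, hgb]⟩

/-- Elements of `rg U b` commute with the exchanging involution. -/
theorem comm_w (IH : Triv.{u, v} (Nat.card G)) {w z : G} (hz : IsZ U z) (hz1 : z ≠ 1) (hw : w * w = 1)
    (hwa : w • a = b) (hwb : w • b = a)
    (hcw : ∀ y : G, y * z = z * y → y * (w * z * w⁻¹) = w * z * w⁻¹ * y → y * w = w * y) {y : G}
    (hy : y ∈ rg U b) : y * w = w * y := by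
  classical
  haveI := h.pre
  have hwi : w⁻¹ = w := inv_eq_of_mul_eq_one_right hw
  have hwwa : ∀ {g : G}, g • b = b → (w * g * w⁻¹) • a = a := fun hg => by
    rw [hwi, mul_smul, mul_smul, hwa, hg, hwb]
  by_cases hDne : ∀ x ∈ U, w * x * w⁻¹ ∈ U → x = 1
  · -- the subgroups `U` and `w U w` meet trivially: then `rg U b` is trivial
    suffices hR : rg U b = ⊥ by
      rw [hR, Subgroup.mem_bot] at hy
      rw [hy, one_mul, mul_one]
    by_contra hR
    have noinv : ∀ {x : G}, x * x = 1 → x ≠ 1 → ∀ {c d : Ω}, c ≠ d → x • c = c → x • d = d → False := by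
      intro x hx2 hx1 c d hcd hxc hxd
      obtain ⟨g, rfl, rfl⟩ := pair_trans h hcd
      have hfa : (g⁻¹ * x * g) • a = a := by rw [mul_smul, mul_smul, hxc, inv_smul_smul]
      have hfb : (g⁻¹ * x * g) • b = b := by rw [mul_smul, mul_smul, hxd, inv_smul_smul]
      have h2 : (g⁻¹ * x * g) * (g⁻¹ * x * g) = 1 := by
        rw [show g⁻¹ * x * g * (g⁻¹ * x * g) = g⁻¹ * (x * x) * g by group, hx2]; group
      have h2' : w * (g⁻¹ * x * g) * w⁻¹ * (w * (g⁻¹ * x * g) * w⁻¹) = 1 := by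
        rw [show w * (g⁻¹ * x * g) * w⁻¹ * (w * (g⁻¹ * x * g) * w⁻¹) = w * (g⁻¹ * x * g * (g⁻¹ * x * g)) * w⁻¹ by
          group, h2]
        group
      have := hDne _ (two_mem h hfa (k := 1) (by rw [pow_one, pow_two, h2]))
        (two_mem h (hwwa hfb) (k := 1) (by rw [pow_one, pow_two, h2']))
      refine hx1 ?_
      have h3 := congrArg (fun t => g * t * g⁻¹) this
      simpa [mul_assoc] using h3
    have uniq : ∀ {x : G}, x * x = 1 → x ≠ 1 → ∀ {c d : Ω}, x • c = c → x • d = d → c = d :=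
      fun hx2 hx1 _ _ hc hd => by_contra fun hcd => noinv hx2 hx1 hcd hc hd
    obtain ⟨j, hj, hj1⟩ := exists_level h hR
    haveI : Nontrivial ↥(rg U b ⊓ Zu U (j + 1)) := (Subgroup.nontrivial_iff_ne_bot _).2 hj1
    obtain ⟨p, hp, hpd⟩ := Nat.exists_prime_and_dvd (Finite.one_lt_card (α := ↥(rg U b ⊓ Zu U (j + 1)))).ne'
    haveI := Fact.mk hp
    obtain ⟨⟨y, hyRj⟩, hyp⟩ := exists_prime_orderOf_dvd_card' p hpd
    rw [Subgroup.orderOf_mk] at hyp
    obtain ⟨hyR, hyj⟩ := Subgroup.mem_inf.1 hyRj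
    have hy1 : y ≠ 1 := fun e => hp.ne_one (by rw [← hyp, e, orderOf_one])
    have hya : y • a = a := fix_a h hyR.1
    have hyb : y • b = b := hyR.2
    have hp2 : p ≠ 2 := fun e => noinv (show y * y = 1 by rw [← pow_two, ← e, ← hyp, pow_orderOf_eq_one]) hy1
      h.ne hya hyb
    have hzy : z * y = y * z := hz.2.2 y hyR.1
    -- no involution fixing `b` commutes with `y`
    have hnone : ∀ {u : G}, u * u = 1 → u ≠ 1 → u • b = b → u * y = y * u → False := by
      intro u hu2 hu1 hub huy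
      have hodd : Odd (orderOf (z * u)) :=
        (Fusion.SEPairs.odd_or_common (orderOf_two hz1 hz.2.1) (orderOf_two hu1 hu2)).resolve_right
          fun ⟨k, hk, hkz, hku⟩ => noinv (Fusion.SEPairs.sq_one hk)
            (fun e => by rw [e, orderOf_one] at hk; omega) h.ne
            (uniq hz.2.1 hz1 (by rw [smul_smul, ← hkz.eq, mul_smul, fix_a h hz.1]) (fix_a h hz.1))
            (uniq hu2 hu1 (by rw [smul_smul, ← hku.eq, mul_smul, hub]) hub)
      obtain ⟨i, hi, hie, hic⟩ :=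
        Fusion.SEPairs.exists_middle (orderOf_two hz1 hz.2.1) (orderOf_two hu1 hu2) hodd
      have hiy : y * i = i * y := hic y hzy.symm huy.symm
      have hia : i • a = b := uniq hu2 hu1 (by
        rw [← hie, mul_smul, mul_smul, inv_smul_smul, fix_a h hz.1]) hub
      refine hy1 (hDne y hyR.1 ?_)
      have := conj_U h (g := w * i) (by rw [mul_smul, hia, hwb]) hyR.1
      rwa [show w * i * y * (w * i)⁻¹ = w * (i * y * i⁻¹) * w⁻¹ by group, ← hiy, mul_inv_cancel_right] at this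
    obtain ⟨c, hc⟩ : ∃ c, c = z • b := ⟨_, rfl⟩
    have hbc : b ≠ c := fun e => h.ne (isZ_fix h hz hz1 (c := b) (by rw [← hc, ← e])).symm
    have hyc : y • c = c := by rw [hc, smul_smul, ← hzy, mul_smul, hyb]
    -- conjugation by `y`
    let cy : (P : G → Prop) → (∀ x, P x → P (y * x * y⁻¹)) → Equiv.Perm {x : G // P x} := fun P hP =>
      Equiv.ofBijective (fun x => ⟨y * x.1 * y⁻¹, hP _ x.2⟩) (Finite.injective_iff_bijective.1
        fun x x' e => Subtype.ext (mul_left_cancel (mul_right_cancel (congrArg Subtype.val e))))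
    have hpow : ∀ P hP, cy P hP ^ p ^ 1 = 1 := by
      intro P hP
      have key : ∀ (n : ℕ) (x : {x : G // P x}), ((cy P hP ^ n) x).1 = y ^ n * x.1 * (y ^ n)⁻¹ := by
        intro n
        induction n with
        | zero => intro x; simp
        | succ n ih =>
          intro x
          rw [pow_succ', Equiv.Perm.mul_apply]
          show y * _ * y⁻¹ = _
          rw [ih x, pow_succ']
          group
      refine Equiv.ext fun x => Subtype.ext ?_
      rw [key, pow_one, ← hyp, pow_orderOf_eq_one]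
      simp
    let I : Ω → G → Prop := fun d x => x * x = 1 ∧ x ≠ 1 ∧ x • d = d
    let J : G → Prop := fun x => x * x = 1 ∧ x ≠ 1 ∧ x • b = c
    have hconj2 : ∀ g x : G, x * x = 1 → x ≠ 1 → g * x * g⁻¹ * (g * x * g⁻¹) = 1 ∧ g * x * g⁻¹ ≠ 1 :=
      fun g x h1 h2 => ⟨by rw [show g * x * g⁻¹ * (g * x * g⁻¹) = g * (x * x) * g⁻¹ by group, h1]; group,
        fun e => h2 (conj_eq_one_iff.1 e)⟩
    have hIb : ∀ x, I b x → I b (y * x * y⁻¹) := fun x hx => ⟨(hconj2 y x hx.1 hx.2.1).1,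
      (hconj2 y x hx.1 hx.2.1).2, by
        rw [mul_smul, mul_smul, inv_smul_eq_iff.2 hyb.symm, hx.2.2, hyb]⟩
    have hJ : ∀ x, J x → J (y * x * y⁻¹) := fun x hx => ⟨(hconj2 y x hx.1 hx.2.1).1,
      (hconj2 y x hx.1 hx.2.1).2, by
        rw [mul_smul, mul_smul, inv_smul_eq_iff.2 hyb.symm, hx.2.2, hyc]⟩
    haveI := Fintype.ofFinite {x : G // I b x}
    haveI := Fintype.ofFinite {x : G // J x}
    have hpI : p ∣ Nat.card {x : G // I b x} := by
      by_contra hnd
      obtain ⟨u, hu⟩ := Equiv.Perm.exists_fixed_point_of_prime (p := p) (n := 1)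
        (by rwa [← Nat.card_eq_fintype_card]) (hpow _ hIb)
      exact hnone u.2.1 u.2.2.1 u.2.2.2 (mul_inv_eq_iff_eq_mul.1 (congrArg Subtype.val hu)).symm
    have hIc : Nat.card {x : G // I c x} = Nat.card {x : G // I b x} := by
      refine (Nat.card_congr ((MulAut.conj z).toEquiv.subtypeEquiv fun x => ?_)).symm
      show _ ↔ I c (z * x * z⁻¹)
      refine ⟨fun hx => ⟨(hconj2 z x hx.1 hx.2.1).1, (hconj2 z x hx.1 hx.2.1).2, by
        rw [hc, mul_smul, mul_smul, inv_smul_smul, hx.2.2]⟩, fun hx => ?_⟩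
      obtain ⟨h1, h2⟩ := hconj2 z⁻¹ _ hx.1 hx.2.1
      simp only [inv_inv, show z⁻¹ * (z * x * z⁻¹) * z = x by group] at h1 h2
      refine ⟨h1, h2, ?_⟩
      have := hx.2.2
      rwa [hc, mul_smul, mul_smul, inv_smul_smul, smul_left_cancel_iff] at this
    have hmiddle : ∀ {u u' : G}, I b u → I c u' → ∃ i, J i ∧ i * u * i⁻¹ = u' ∧
        ∀ k, J k → k * u * k⁻¹ = u' → k = i := by
      intro u u' hu hu'
      have hou := orderOf_two hu.2.1 hu.1
      have hou' := orderOf_two hu'.2.1 hu'.1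
      obtain ⟨i, hi, hie, hic⟩ := Fusion.SEPairs.exists_middle hou hou'
        ((Fusion.SEPairs.odd_or_common hou hou').resolve_right fun ⟨k, hk, hku, hku'⟩ =>
          noinv (Fusion.SEPairs.sq_one hk) (fun e => by rw [e, orderOf_one] at hk; omega) hbc
            (uniq hu.1 hu.2.1 (by rw [smul_smul, ← hku.eq, mul_smul, hu.2.2]) hu.2.2)
            (uniq hu'.1 hu'.2.1 (by rw [smul_smul, ← hku'.eq, mul_smul, hu'.2.2]) hu'.2.2))
      have hib : i • b = c := uniq hu'.1 hu'.2.1 (by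
        rw [← hie, mul_smul, mul_smul, inv_smul_smul, hu.2.2]) hu'.2.2
      have hii := Fusion.SEPairs.sq_one hi
      refine ⟨i, ⟨hii, fun e => by rw [e, orderOf_one] at hi; omega, hib⟩, hie, fun k hk hke => ?_⟩
      obtain ⟨d, hd⟩ : ∃ d, d = i⁻¹ * k := ⟨_, rfl⟩
      have hki : k⁻¹ = k := inv_eq_of_mul_eq_one_right hk.1
      have hdu : d * u = u * d := by
        refine mul_inv_eq_iff_eq_mul.1 ?_
        calc d * u * d⁻¹ = i⁻¹ * (k * u * k⁻¹) * i := by rw [hd]; group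
          _ = i⁻¹ * (i * u * i⁻¹) * i := by rw [hke, hie]
          _ = u := by group
      have hku' : k * u' * k⁻¹ = u := by
        rw [← hke]
        calc k * (k * u * k⁻¹) * k⁻¹ = (k * k) * u * (k * k)⁻¹ := by group
          _ = u := by rw [hk.1]; group
      have hdu' : d * u' = u' * d := by
        refine mul_inv_eq_iff_eq_mul.1 ?_
        calc d * u' * d⁻¹ = i⁻¹ * (k * u' * k⁻¹) * i := by rw [hd]; group
          _ = i⁻¹ * u * i := by rw [hku']
          _ = i * u * i⁻¹ := by rw [inv_eq_of_mul_eq_one_right hii]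
          _ = u' := hie
      have hdi := hic d hdu hdu'
      have hdd : d * d = 1 := by
        have h1 : (i * d) * (i * d) = 1 := by rw [hd, mul_inv_cancel_left]; exact hk.1
        calc d * d = (i * i) * (d * d) := by rw [hii, one_mul]
          _ = i * (i * d) * d := by group
          _ = i * (d * i) * d := by rw [hdi.eq]
          _ = (i * d) * (i * d) := by group
          _ = 1 := h1
      by_contra hne
      have hd1 : d ≠ 1 := fun e => hne (inv_mul_eq_one.1 (hd ▸ e)).symm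
      exact noinv hdd hd1 hbc (uniq hu.1 hu.2.1 (by rw [smul_smul, ← hdu, mul_smul, hu.2.2]) hu.2.2)
        (uniq hu'.1 hu'.2.1 (by rw [smul_smul, ← hdu', mul_smul, hu'.2.2]) hu'.2.2)
    have hJI : Nat.card {x : G // J x} = Nat.card {x : G // I b x} := by
      let f : {x : G // I b x} × {x : G // J x} → {x : G // I b x} × {x : G // I c x} := fun q =>
        (q.1, ⟨q.2.1 * q.1.1 * q.2.1⁻¹, (hconj2 _ _ q.1.2.1 q.1.2.2.1).1, (hconj2 _ _ q.1.2.1 q.1.2.2.1).2, by
          rw [mul_smul, mul_smul, ← q.2.2.2.2, inv_smul_smul, q.1.2.2.2]⟩)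
      have hf : Function.Bijective f := by
        refine ⟨?_, ?_⟩
        · rintro ⟨u, i⟩ ⟨u', k⟩ e
          have e1 : u = u' := congrArg Prod.fst e
          subst e1
          have e2 : i.1 * u.1 * i.1⁻¹ = k.1 * u.1 * k.1⁻¹ :=
            congrArg (fun q : {x : G // I b x} × {x : G // I c x} => q.2.1) e
          obtain ⟨m, -, -, hm⟩ := hmiddle u.2 (f (u, i)).2.2
          exact Prod.ext rfl (Subtype.ext ((hm _ i.2 rfl).trans (hm _ k.2 e2.symm).symm))
        · rintro ⟨u, u'⟩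
          obtain ⟨i, hi, hie, -⟩ := hmiddle u.2 u'.2
          exact ⟨(u, ⟨i, hi⟩), Prod.ext rfl (Subtype.ext hie)⟩
      have := Nat.card_eq_of_bijective f hf
      rw [Nat.card_prod, Nat.card_prod, hIc] at this
      exact Nat.eq_of_mul_eq_mul_left (Nat.pos_of_ne_zero fun e0 => by
        have hwz : I b (w * z * w⁻¹) := ⟨(hconj2 w z hz.2.1 hz1).1, (hconj2 w z hz.2.1 hz1).2, by
          rw [hwi, mul_smul, mul_smul, hwb, fix_a h hz.1, hwa]⟩
        haveI : Nonempty {x : G // I b x} := ⟨⟨_, hwz⟩⟩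
        exact Nat.card_pos.ne' e0) this
    have hzJ : J z := ⟨hz.2.1, hz1, hc.symm⟩
    obtain ⟨⟨i, hi2, hi1, hib⟩, hifix, hine⟩ := Equiv.Perm.exists_fixed_point_of_prime' (p := p) (n := 1)
      (by rw [← Nat.card_eq_fintype_card, hJI]; exact hpI) (hpow _ hJ) (a := ⟨z, hzJ⟩)
      (Subtype.ext (show y * z * y⁻¹ = z by rw [← hzy, mul_inv_cancel_right]))
    have hiy : y * i = i * y := mul_inv_eq_iff_eq_mul.1 (congrArg Subtype.val hifix)
    obtain ⟨d, hid⟩ := invol_fix h hi2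
    have hyd : y • d = d := uniq hi2 hi1 (by rw [smul_smul, ← hiy, mul_smul, hid]) hid
    by_cases hda : d = a
    · subst hda
      have hiU : i ∈ U := two_mem h hid (k := 1) (by rw [pow_one, pow_two, hi2])
      refine hine (Subtype.ext ?_)
      by_contra hne
      refine noinv (x := z⁻¹ * i) ?_ (fun e => hne (inv_mul_eq_one.1 e).symm) h.ne
        (fix_a h (mul_mem (inv_mem hz.1) hiU)) (by rw [mul_smul, hib, hc, inv_smul_smul])
      rw [inv_eq_of_mul_eq_one_right hz.2.1, mul_assoc z i, ← mul_assoc i z, ← hz.2.2 i hiU, mul_assoc z i i, hi2,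
        mul_one, hz.2.1]
    · obtain ⟨v, hv, rfl⟩ := h.trans d hda
      have hvy : y * v = v * y := rigid hj hyR hyj hv ⟨U.mul_mem (U.mul_mem (U.inv_mem hv) hyR.1) hv, by
        show (v⁻¹ * y * v) • b = b
        rw [mul_smul, mul_smul, hyd, inv_smul_smul]⟩
      refine hnone (hconj2 v⁻¹ i hi2 hi1).1 (hconj2 v⁻¹ i hi2 hi1).2 ?_ ?_
      · rw [inv_inv, mul_smul, mul_smul, hid, inv_smul_smul]
      · rw [inv_inv]
        exact (((show Commute y v from hvy).inv_right.mul_right hiy).mul_right hvy).eq.symm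
  · push Not at hDne
    obtain ⟨x₀, hx₀, hx₀w, hx₀1⟩ := hDne
    let D : Subgroup G := U ⊓ U.comap (MulAut.conj w).toMonoidHom
    have hD : ∀ x, x ∈ D ↔ x ∈ U ∧ w * x * w⁻¹ ∈ U := fun x => Iff.rfl
    let M := Subgroup.normalizer (D : Set G)
    have hwM : w ∈ M := mem_nrm fun x hx => by
      refine (hD _).2 ⟨((hD x).1 hx).2, ?_⟩
      rw [show w * (w * x * w⁻¹) * w⁻¹ = (w * w) * x * (w * w)⁻¹ by group, hw]
      simpa using ((hD x).1 hx).1
    have hZM : ∀ e, IsZ U e → e ∈ M := fun e he => mem_nrm fun x hx => by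
      rw [he.2.2 x ((hD x).1 hx).1, mul_inv_cancel_right]; exact hx
    have hyM : y ∈ M := mem_nrm fun x hx => by
      refine (hD _).2 ⟨mul_mem (mul_mem hy.1 ((hD x).1 hx).1) (inv_mem hy.1), ?_⟩
      rw [show w * (y * x * y⁻¹) * w⁻¹ = (w * y * w⁻¹) * (w * x * w⁻¹) * (w * y * w⁻¹)⁻¹ by group]
      exact conj_U h (hwwa hy.2) ((hD x).1 hx).2
    have hM : M ≠ ⊤ := by
      intro htop
      have hx₀D : x₀ ∈ D := (hD x₀).2 ⟨hx₀, hx₀w⟩
      refine hx₀1 (FaithfulSMul.eq_of_smul_eq_smul (α := Ω) fun c => ?_)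
      obtain ⟨g, rfl⟩ := MulAction.exists_smul_eq G a c
      have h1 := ((hD _).1 (nrm_conj' (htop ▸ Subgroup.mem_top g : g ∈ M) hx₀D)).1
      have h2 := fix_a h h1
      rw [mul_smul, mul_smul, inv_smul_eq_iff] at h2
      rw [h2, one_smul]
    have htr : ∀ g ∈ M, g • a ≠ a → ∃ u ∈ U, u ∈ M ∧ u • b = g • a := by
      intro g hg hga
      obtain ⟨u, hu, e⟩ := h.trans _ hga
      refine ⟨u, hu, ?_, e⟩
      have hfix : (w * u⁻¹ * g) • a = a := by rw [mul_smul, mul_smul, ← e, inv_smul_smul, hwb]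
      have : u⁻¹ ∈ M := mem_nrm fun x hx => by
        refine (hD _).2 ⟨mul_mem (mul_mem (inv_mem hu) ((hD x).1 hx).1) (inv_mem (inv_mem hu)), ?_⟩
        rw [show w * (u⁻¹ * x * u⁻¹⁻¹) * w⁻¹ = (w * u⁻¹ * g) * (g⁻¹ * x * g) * (w * u⁻¹ * g)⁻¹ by group]
        exact conj_U h hfix ((hD _).1 (nrm_conj' hg hx)).1
      simpa using inv_mem this
    have hb : b ∈ orbit M a := ⟨⟨w, hwM⟩, hwa⟩
    have hall : ∀ g ∈ M, y • (g • a) = g • a := fun g hg => step h IH hM hZM hb htr hy hyM hg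
    obtain ⟨u, hu⟩ : ∃ u, u = w * z * w⁻¹ := ⟨_, rfl⟩
    rw [← hu] at hcw
    refine hcw y (hz.2.2 y hy.1).symm ?_
    have hu2 : u * u = 1 := by
      rw [hu, show w * z * w⁻¹ * (w * z * w⁻¹) = w * (z * z) * w⁻¹ by group, hz.2.1]; group
    have huM : u ∈ M := hu ▸ mul_mem (mul_mem hwM (hZM z hz)) (inv_mem hwM)
    have hconj : IsZ U (w * (y * u * y⁻¹) * w⁻¹) := by
      rw [hu, show w * (y * (w * z * w⁻¹) * y⁻¹) * w⁻¹ = (w * y * w) * z * (w * y * w)⁻¹ by
        simp only [_root_.mul_inv_rev, hwi, mul_assoc]]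
      exact isZ_conj h hz (by have := hwwa hy.2; rwa [hwi] at this)
    have hva : (y * u * y⁻¹ * u) • a = a := by
      have h1 : y⁻¹ • (u • a) = u • a := inv_smul_eq_iff.2 (hall u huM).symm
      rw [mul_smul, mul_smul, mul_smul, h1, smul_smul, smul_smul, mul_assoc, hu2, mul_one, fix_a h hy.1]
    have hvZ : w * (y * u * y⁻¹ * u) * w⁻¹ = w * (y * u * y⁻¹) * w⁻¹ * z := by
      rw [hu, hwi]
      simp only [mul_assoc, hw, mul_one]
    have hfb : (w * (y * u * y⁻¹ * u) * w⁻¹) • b = b := by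
      rw [hwi, mul_smul, mul_smul, hwb, hva, hwa]
    rw [hvZ] at hfb
    have h1 := semireg h (mul_mem hconj.1 hz.1) (fun v hv => by
      rw [mul_assoc, hz.2.2 v hv, ← mul_assoc, hconj.2.2 v hv, mul_assoc]) h.ne.symm hfb
    rw [← hvZ, conj_eq_one_iff, mul_eq_one_iff_eq_inv, inv_eq_of_mul_eq_one_right hu2] at h1
    exact mul_inv_eq_iff_eq_mul.1 h1

end Cfsg.Agent.Lie.R1C.Reg
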