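import Cfsg.Agent.Lib.Lie.SplitRankOne.Regular.Layers
import Cfsg.Agent.S0111

/-!
The transfer argument: no element of `U` other than the identity fixes two points.
-/

set_option autoImplicit false
set_option linter.unusedSectionVars false
set_option linter.unusedSimpArgs false
set_option linter.style.haveILetI false

namespace Cfsg.Agent.Lie.R1C.Reg

open Cfsg MulAction
open Cfsg.Agent.Lie.R1 (D tt t_inv tDt)

universe u v

/-- A Suzuki order does not have the shape `q ^ 3 * (q - 1) * (q ^ 3 + 1)`. -/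
theorem order_ne {f e : ℕ} (hf : 2 ≤ f) (he : 1 ≤ e) :
    (2 ^ f) ^ 3 * (2 ^ f - 1) * ((2 ^ f) ^ 3 + 1) ≠ (2 ^ e) ^ 2 * ((2 ^ e) ^ 2 + 1) * (2 ^ e - 1) := by
  intro h
  have hodd : ∀ n k : ℕ, 1 ≤ n → Nat.Coprime (2 ^ k) (2 ^ n - 1) := fun n k hn =>
    Nat.Coprime.pow_left _ (Nat.coprime_two_left.2 (Nat.Even.sub_odd Nat.one_le_two_pow
      (Nat.even_pow.2 ⟨even_two, by omega⟩) odd_one))
  have hodd' : ∀ n k : ℕ, 1 ≤ n → Nat.Coprime (2 ^ k) (2 ^ n + 1) := fun n k hn =>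
    Nat.Coprime.pow_left _ (Nat.coprime_two_left.2 ((Nat.even_pow.2 ⟨even_two, by omega⟩).add_one))
  rw [mul_assoc, mul_assoc, ← pow_mul, ← pow_mul] at h
  have h1 : 2 ^ (f * 3) ∣ 2 ^ (e * 2) :=
    ((hodd' (e * 2) _ (by omega)).mul_right (hodd e _ he)).dvd_of_dvd_mul_right (h ▸ dvd_mul_right _ _)
  have h2 : 2 ^ (e * 2) ∣ 2 ^ (f * 3) :=
    ((hodd f _ (by omega)).mul_right (hodd' (f * 3) _ (by omega))).dvd_of_dvd_mul_right (h.symm ▸ dvd_mul_right _ _)
  have h3 := Nat.pow_right_injective le_rfl (Nat.dvd_antisymm h1 h2)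
  rw [h3] at h
  have h4 := Nat.eq_of_mul_eq_mul_left (Nat.two_pow_pos _) h
  rw [mul_comm] at h4
  have h5 := Nat.eq_of_mul_eq_mul_left (Nat.succ_pos _) h4
  have h6 : f = e := Nat.pow_right_injective le_rfl (show (2 : ℕ) ^ f = 2 ^ e by
    have := Nat.one_le_two_pow (n := f)
    have := Nat.one_le_two_pow (n := e)
    omega)
  omega

variable {G : Type u} {Ω : Type v} [Group G] [MulAction G Ω] [Finite G] {a b : Ω} {U : Subgroup G}

namespace KC

variable {w r : G} {j : ℕ} (k : KC G Ω a b U w r j)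

include k

/-- An element of odd order fixing the base points and centralising the central involutions fixes everything in
its sight. -/
theorem odd_central {M : Subgroup G} (hZM : ∀ e, IsZ U e → e ∈ M) (hM : M.Normal)
    (hRM : ∀ y ∈ rg U b, y ∈ M → y = 1) {g : G} (hga : g • a = a) (hgb : g • b = b) (hodd : Odd (orderOf g))
    (hgZ : ∀ e, IsZ U e → g * e = e * g) {x : G} (hx : x ∈ U) (hxM : x ∈ M) : g * x = x * g := by
  have hT : ∀ t ∈ Tg U b j, g * t = t * g := by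
    intro t ht
    obtain ⟨β, hβ⟩ : ∃ β, β = t⁻¹ * (g * t * g⁻¹) := ⟨_, rfl⟩
    have ht' := k.conj_T hga hgb ht
    have hβT : β ∈ Tg U b j := hβ ▸ mul_mem (inv_mem ht) ht'
    have hsq : g * t * g⁻¹ * (g * t * g⁻¹) = t * t := by
      rw [show g * t * g⁻¹ * (g * t * g⁻¹) = g * (t * t) * g⁻¹ by group, hgZ _ (k.T_sq_Z ht),
        mul_inv_cancel_right]
    have hβ2 : β * β = 1 := by
      have hc : Commute (g * t * g⁻¹) t⁻¹ := (show Commute (g * t * g⁻¹) t from k.T_comm ht' ht).inv_right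
      calc β * β = t⁻¹ * (g * t * g⁻¹ * t⁻¹) * (g * t * g⁻¹) := by rw [hβ]; group
        _ = t⁻¹ * (t⁻¹ * (g * t * g⁻¹)) * (g * t * g⁻¹) := by rw [hc.eq]
        _ = (t * t)⁻¹ * (g * t * g⁻¹ * (g * t * g⁻¹)) := by group
        _ = 1 := by rw [hsq, inv_mul_cancel]
    have hβZ : IsZ U β := k.T_n1 hβT (k.n1_of_dl (k.T_U hβT) ((k.T_sq hβT).trans hβ2))
    have he : g * t * g⁻¹ = t * β := by rw [hβ, mul_inv_cancel_left]
    have h1 := eq_one_of_shift hodd (hgZ β hβZ) he (k := 1) (by rw [pow_one, pow_two, hβ2])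
    rw [h1, mul_one] at he
    exact mul_inv_eq_iff_eq_mul.1 he
  obtain ⟨m, hm⟩ : ∃ m, m = x⁻¹ * (g * x * g⁻¹) := ⟨_, rfl⟩
  have hmU : m ∈ U := hm ▸ mul_mem (inv_mem hx) (conj_U k.nr hga hx)
  have hdl : dl r (g * x * g⁻¹) = dl r x := by
    rw [dl_conj (k.fix_r hga hgb), hT _ (k.all_U hx).1, mul_inv_cancel_right]
  have he : g * x * g⁻¹ = x * m := by rw [hm, mul_inv_cancel_left]
  have hmn : m ∈ n1 U b := by
    refine k.n1_of_dl hmU ?_
    rw [he, dl_mul, mul_eq_left, conj_eq_one_iff] at hdl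
    exact hdl
  have hmM : m ∈ M := hm ▸ mul_mem (inv_mem hxM) (hM.conj_mem x hxM g)
  obtain ⟨e, y, heZ, hy, hey⟩ := k.n1_decomp hmn
  have hy1 : y = 1 := hRM y hy ((Subgroup.mul_mem_cancel_left _ (hZM e heZ)).1 (hey ▸ hmM))
  rw [hy1, mul_one] at hey
  have h1 := eq_one_of_shift hodd (hgZ e heZ) (hey ▸ he) (k := 1) (by rw [pow_one, pow_two, heZ.2.1])
  rw [hey, h1, mul_one] at he
  exact mul_inv_eq_iff_eq_mul.1 he

/-- `U` contains a Sylow two-subgroup. -/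
theorem exists_sylow : ∃ P : Sylow 2 G, (P : Subgroup G) = U := by
  haveI := k.faith
  haveI := k.nr.pre
  haveI := Fact.mk Nat.prime_two
  haveI : Finite Ω := Finite.of_surjective (fun g : G => g • a) fun c => MulAction.exists_smul_eq G a c
  obtain ⟨P, hP⟩ := k.two.exists_le_sylow
  obtain ⟨c, hc⟩ := P.isPGroup'.nonempty_fixed_point_of_prime_not_dvd_card Ω
    fun h2 => Nat.not_even_iff_odd.2 (odd_points k.nr) (even_iff_two_dvd.2 h2)
  obtain ⟨z, -, hz, -, hz1, -⟩ := exists_pair k.nr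
  have hca : c = a := isZ_fix k.nr hz hz1 (hc ⟨z, hP hz.1⟩)
  refine ⟨P, le_antisymm (fun x hx => ?_) hP⟩
  obtain ⟨i, hi⟩ := P.isPGroup' ⟨x, hx⟩
  exact two_mem k.nr (hca ▸ hc ⟨x, hx⟩) (congrArg Subtype.val hi)

/-- The conjugates of `r` in `U` lie in `r * T`. -/
theorem fusion {g : G} (hg : g * r * g⁻¹ ∈ U) : ∃ t ∈ Tg U b j, g * r * g⁻¹ = r * t := by
  haveI := k.faith
  have hfix : r • (g⁻¹ • a) = g⁻¹ • a := by
    have h1 := fix_a k.nr hg
    rw [mul_smul, mul_smul, ← eq_inv_smul_iff] at h1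
    exact h1
  obtain ⟨c, hc, hca⟩ : ∃ c : G, c * r = r * c ∧ c • a = g⁻¹ • a := by
    by_cases hd : g⁻¹ • a = a
    · exact ⟨1, by rw [one_mul, mul_one], by rw [one_smul, hd]⟩
    obtain ⟨⟨v, hv⟩, e⟩ := (k.fix_iff k.low hd).1 hfix
    refine ⟨v * w, ?_, by rw [mul_smul, k.w_a]; exact e⟩
    exact ((show Commute r v from k.nrm_cent k.low hv).mul_right
      (show Commute r w from k.w_R r k.low.1)).eq.symm
  obtain ⟨h, hh⟩ : ∃ h, h = g * c := ⟨_, rfl⟩
  have hha : h • a = a := by rw [hh, mul_smul, hca, smul_inv_smul]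
  obtain ⟨v, hv, x, hxa, hxb, hvx⟩ := decomp k.nr hha
  refine ⟨dl r v, (k.all_U hv).1, ?_⟩
  rw [← k.conj_dl]
  have h1 : g * r * g⁻¹ = h * r * h⁻¹ := by
    rw [hh, show g * c * r * (g * c)⁻¹ = g * (c * r * c⁻¹) * g⁻¹ by group, hc, mul_inv_cancel_right]
  have h2 : x * r * x⁻¹ = r := by rw [k.fix_r hxa hxb, mul_inv_cancel_right]
  rw [h1, hvx, show v * x * r * (v * x)⁻¹ = v * (x * r * x⁻¹) * v⁻¹ by group, h2]

/-- A normal subgroup of index two missing `r`. -/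
theorem exists_M : ∃ M : Subgroup G, M.Normal ∧ M.index = 2 ∧ r ∉ M := by
  obtain ⟨L, hLU, hL2, -, -, hLr⟩ := k.exists_L
  obtain ⟨P, hP⟩ := k.exists_sylow
  refine (Cfsg.Agent.S0111.result P L (hP.symm ▸ hLU) (hP.symm ▸ hL2) r (orderOf_two k.low.2.2.2 k.low.2.2.1)
    (hP.symm ▸ k.R_le_U k.low.1) ?_).resolve_right ?_
  · intro h
    exact hLr 1 (one_mem _) (by rwa [mul_one])
  · rintro ⟨g, hg⟩
    obtain ⟨t, ht, e⟩ := k.fusion (hLU hg)
    exact hLr t ht (e ▸ hg)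

end KC

/-- In a simple rank-one set-up of order `q ^ 3 * (q - 1) * (q ^ 3 + 1)` the group `W` is nontrivial. -/
theorem wg_ne {t : G} [IsSimpleGroup G] [FaithfulSMul G Ω] (hc : Ctx G Ω a t U) (hQ : IsPGroup 2 U)
    (hQ3 : Nat.card U = Nat.card (zg G a) ^ 3) : wg G a t ≠ ⊥ := by
  classical
  intro hW
  have hV : vg G a t = ⊥ := by
    by_contra hV
    have hnc : ∃ x ∈ U, ∃ y ∈ U, x * y ≠ y * x := by
      by_contra h
      push Not at h
      exact hc.no_abelian hQ h hV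
    obtain ⟨hsq, -, -⟩ := hc.s_struct le_rfl hc.zg_le_Q
      (fun k hk x hx => R1.conj_Q hc.hS (hc.kg_fix hk) hx) hQ hnc
    obtain ⟨L, _, _, _, f, zp, kp, x0, hCS, hsum, hf, hLf, hzf⟩ := hc.exists_cset hQ3 hsq
      (fun χ hχ hne g m n α β hH => (gm_ne hH hχ hne).2) (hc.exists_char hV)
    exact hV (hCS.not_triv hf hLf hW)
  obtain ⟨f, hf, hzf⟩ := hc.exists_f
  have h4 : 2 ^ 2 ≤ 2 ^ f := Nat.pow_le_pow_right (by norm_num) hf
  rcases hc.feit_alt hV with ⟨hP, hna⟩ | hQZ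
  · haveI := R1.finite_Ω hc.hS
    haveI := Fintype.ofFinite Ω
    have hΩ : Fintype.card Ω = Nat.card U + 1 := by rw [← Nat.card_eq_fintype_card, R1.card_Ω hc.hS]
    obtain ⟨m, -, hcard⟩ := card_of_isoSuzuki (SuzukiUnique.iso_suzuki (hc.zassenhaus hV) (R1.ta_ne hc.hS).symm U
      hc.hS.le hΩ.symm hc.honly hP hna)
    have hD := hc.card_D_of_bot hV
    refine order_ne (f := f) (e := 2 * m + 1) hf (by omega) ?_
    rw [← hcard, R1.card_G hc.hS, hQ3, hzf, show Nat.card (D G a t) = 2 ^ f - 1 by omega]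
  · rw [← hQZ] at hQ3 hzf
    rw [hzf] at hQ3
    have h1 : 2 ^ f * 4 ≤ (2 ^ f) ^ 3 := by
      rw [pow_succ, mul_comm _ (2 ^ f)]
      refine Nat.mul_le_mul_left _ ?_
      calc 4 ≤ 2 ^ f := h4
        _ ≤ (2 ^ f) ^ 2 := Nat.le_self_pow two_ne_zero _
    omega

namespace KC

variable {w r : G} {j : ℕ} (k : KC G Ω a b U w r j)

include k

/-- There is no low involution. -/
theorem false : False := by
  classical
  haveI := k.faith
  haveI := k.nr.pre
  obtain ⟨M, hMn, hM2, hrM⟩ := k.exists_M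
  have hMtop : M ≠ ⊤ := fun e => hrM (e ▸ Subgroup.mem_top r)
  have hZM : ∀ e, IsZ U e → e ∈ M := fun e he => by
    obtain ⟨t, -, -, ht⟩ := k.T_root he
    exact ht ▸ Subgroup.mul_self_mem_of_index_two hM2 t
  have htrU : ∀ c, c ≠ a → ∃ u ∈ U, u ∈ M ∧ u • b = c := by
    intro c hc
    obtain ⟨u, hu, e⟩ := k.nr.trans c hc
    by_cases huM : u ∈ M
    · exact ⟨u, hu, huM, e⟩
    · exact ⟨u * r, mul_mem hu (k.R_le_U k.low.1), (Subgroup.mul_mem_iff_of_index_two hM2).2 (iff_of_false huM hrM),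
        by rw [mul_smul, show r • b = b from (Subgroup.mem_inf.1 k.low.1).2, e]⟩
  obtain ⟨z, z', hz, hz', hz1, hz'1, hne⟩ := exists_pair k.nr
  obtain ⟨u₀, hu₀⟩ : ∃ u₀, u₀ = w * z * w⁻¹ := ⟨_, rfl⟩
  have hu₀M : u₀ ∈ M := hu₀ ▸ hMn.conj_mem z (hZM z hz) w
  have hu₀a : u₀ • a ≠ a := fun e => k.nr.ne ((conj_fix k.nr hz hz1 (hu₀ ▸ e)).trans k.w_a)
  have horb : ∀ c : Ω, c ∈ orbit M a := by
    intro c
    by_cases hc : c = a
    · subst hc
      exact mem_orbit_self c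
    obtain ⟨u₁, -, hu₁M, e₁⟩ := htrU _ hu₀a
    obtain ⟨u₂, -, hu₂M, e₂⟩ := htrU c hc
    exact ⟨⟨u₂ * u₁⁻¹ * u₀, mul_mem (mul_mem hu₂M (inv_mem hu₁M)) hu₀M⟩, by
      show (u₂ * u₁⁻¹ * u₀) • a = c
      rw [mul_smul, mul_smul, ← e₁, inv_smul_smul, e₂]⟩
  have hRM : ∀ y ∈ rg U b, y ∈ M → y = 1 := fun y hy hyM =>
    FaithfulSMul.eq_of_smul_eq_smul (α := Ω) fun c => by
      obtain ⟨g, hg⟩ := horb c
      rw [one_smul, ← hg]
      exact step k.nr k.ih hMtop hZM (horb b) (fun g _ hga => htrU _ hga) hy hyM g.2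
  have h3 : z • b ≠ z' • b := fun e => hne (by
    have hz'i : z'⁻¹ = z' := inv_eq_of_mul_eq_one_right hz'.2.1
    have := semireg k.nr (mul_mem (inv_mem hz'.1) hz.1) (fun u hu => by
      rw [mul_assoc, hz.2.2 u hu, ← mul_assoc, hz'i, hz'.2.2 u hu, mul_assoc]) k.nr.ne.symm (c := b)
      (by rw [mul_smul, e, inv_smul_smul])
    exact (inv_mul_eq_one.1 this).symm)
  have hN := restrict k.nr (hZM z hz) (hZM z' hz') hz hz'
    (fun e => hz1 (semireg k.nr hz.1 hz.2.2 k.nr.ne.symm e))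
    (fun e => hz'1 (semireg k.nr hz'.1 hz'.2.2 k.nr.ne.symm e)) h3 (horb b) (fun g _ hga => htrU _ hga)
  haveI : FaithfulSMul M (orbit M a) := ⟨fun {g g'} e => Subtype.ext
    (FaithfulSMul.eq_of_smul_eq_smul (α := Ω) fun c => congrArg Subtype.val (e ⟨c, horb c⟩))⟩
  obtain ⟨t₁, ht₁, hcM⟩ := ctx hN fun x hx hxb =>
    Subtype.ext (hRM _ (Subgroup.mem_inf.2 ⟨hx, congrArg Subtype.val hxb⟩) x.2)
  haveI : FaithfulSMul (invClosure M) (orbit M a) :=
    ⟨fun {g g'} hgg => Subtype.ext (FaithfulSMul.eq_of_smul_eq_smul (α := orbit M a) hgg)⟩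
  haveI := hcM.inv_ctx.simple_of_gen Ctx.invClosure_self
  have hc := hcM.inv_ctx
  let a' : orbit M a := ⟨a, mem_orbit_self a⟩
  have hfix : ∀ x : invClosure M, x • a' = a' ↔ ((x : M) : G) • a = a := fun x => by
    exact ⟨fun e => congrArg Subtype.val e, fun e => Subtype.ext e⟩
  have hZinv : ∀ e (he : IsZ U e), (⟨e, hZM e he⟩ : M) ∈ invClosure M := fun e he => by
    by_cases he1 : e = 1
    · subst he1; exact one_mem _
    · exact Subgroup.subset_closure ⟨fun h => he1 (congrArg Subtype.val h), Subtype.ext he.2.1⟩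
  let φ : zsub U → invClosure M := fun e => ⟨⟨e, hZM e e.2⟩, hZinv e e.2⟩
  have hφ : ∀ e, φ e ∈ zg (invClosure M) a' := fun e =>
    hc.mem_zg_of_sq ((hfix _).2 (fix_a k.nr e.2.1)) (Subtype.ext (Subtype.ext e.2.2.1))
  have hzZ : ∀ x ∈ zg (invClosure M) a', IsZ U ((x : M) : G) := by
    intro x hx
    by_cases hx1 : x = 1
    · subst hx1; exact (zsub U).one_mem
    have hne1 : φ ⟨z, hz⟩ ≠ 1 := fun e => hz1 (congrArg (fun q : invClosure M => ((q : M) : G)) e)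
    obtain ⟨c, hcK, rfl⟩ := hc.kg_trans (hφ ⟨z, hz⟩) hne1 hx hx1
    exact isZ_conj k.nr hz ((hfix c).1 (hc.kg_fix hcK))
  have hzcard : Nat.card (zg (invClosure M) a') = Nat.card (zsub U) :=
    (Nat.card_eq_of_bijective (fun e => (⟨φ e, hφ e⟩ : zg (invClosure M) a')) ⟨fun e e' h =>
      Subtype.ext (congrArg (fun q : zg (invClosure M) a' => (((q : invClosure M) : M) : G)) h),
      fun x => ⟨⟨_, hzZ x x.2⟩, rfl⟩⟩).symm
  have hR1 := Nat.card_pos (α := rg U b)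
  have hQcard : Nat.card ((U.subgroupOf M).subgroupOf (invClosure M)) = Nat.card (zg (invClosure M) a') ^ 3 := by
    rw [Nat.card_congr (Subgroup.subgroupOfEquivOfLe hcM.Q_le_inv).toEquiv, hzcard]
    have e1 := ncard_orbit_mul U b
    have e2 := ncard_orbit_mul (U ⊓ M) b
    have e3 := ncard_orbit_mul (n1 U b) b
    have hn1 : n1 U b ⊓ stabilizer G b = rg U b :=
      le_antisymm (fun x hx => Subgroup.mem_inf.2
        ⟨(Subgroup.mem_inf.1 (Subgroup.mem_inf.1 hx).1).1, (Subgroup.mem_inf.1 hx).2⟩)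
        fun x hx => Subgroup.mem_inf.2 ⟨k.R_n1 hx, (Subgroup.mem_inf.1 hx).2⟩
    have hMR : Nat.card ↥(U ⊓ M ⊓ stabilizer G b) = 1 := Subgroup.card_eq_one.2 ((Subgroup.eq_bot_iff_forall _).2
      fun x hx => hRM x (Subgroup.mem_inf.2 ⟨(Subgroup.mem_inf.1 (Subgroup.mem_inf.1 hx).1).1,
        (Subgroup.mem_inf.1 hx).2⟩) (Subgroup.mem_inf.1 (Subgroup.mem_inf.1 hx).1).2)
    have horbU : orbit ↥(U ⊓ M) b = orbit U b := by
      ext c
      constructor
      · rintro ⟨⟨u, hu⟩, rfl⟩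
        exact ⟨⟨u, (Subgroup.mem_inf.1 hu).1⟩, rfl⟩
      · rintro ⟨⟨u, hu⟩, rfl⟩
        obtain ⟨v, hv, hvM, e⟩ := htrU (u • b) (ne_fix k.nr k.nr.ne.symm (fix_a k.nr hu))
        exact ⟨⟨v, Subgroup.mem_inf.2 ⟨hv, hvM⟩⟩, e⟩
    rw [hn1, k.count.1] at e3
    rw [hMR, mul_one, horbU] at e2
    rw [k.count.2.1, ← e3, ← mul_assoc, ← pow_succ] at e1
    have e4 := Nat.eq_of_mul_eq_mul_right hR1 e1
    rw [Nat.card_congr (show U.subgroupOf M ≃ ↥(U ⊓ M) from
      { toFun := fun x => ⟨((x : M) : G), Subgroup.mem_inf.2 ⟨x.2, (x : M).2⟩⟩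
        invFun := fun x => ⟨⟨x, (Subgroup.mem_inf.1 x.2).2⟩, (Subgroup.mem_inf.1 x.2).1⟩
        left_inv := fun _ => rfl
        right_inv := fun _ => rfl }), ← e2, e4]
  have hW : wg (invClosure M) a' ⟨t₁, hcM.t_mem_inv⟩ = ⊥ := by
    rw [Subgroup.eq_bot_iff_forall]
    intro x hx
    have hxD := Subgroup.mem_inf.1 (hc.vg_le (hc.wg_le_vg hx))
    obtain ⟨g, hg⟩ : ∃ g : G, g = ((x : M) : G) := ⟨_, rfl⟩
    have hga : g • a = a := hg ▸ (hfix x).1 hxD.1
    have hgb : g • b = b := by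
      have h1 : x • (t₁ • a') = t₁ • a' := hxD.2
      have h2 : x • (⟨b, horb b⟩ : orbit M a) = ⟨b, horb b⟩ := by
        rw [← ht₁]; exact h1
      rw [hg]
      exact congrArg Subtype.val h2
    have hodd : Odd (orderOf g) := by
      rw [hg, Subgroup.orderOf_coe, Subgroup.orderOf_coe]
      exact hc.hS.odd_card.of_dvd_nat (Subgroup.orderOf_dvd_natCard _ (hc.vg_le (hc.wg_le_vg hx)))
    have hgZ : ∀ e, IsZ U e → g * e = e * g := fun e he => hg ▸
      congrArg (fun q : invClosure M => ((q : M) : G)) (hc.wg_comm_zg hx (hφ ⟨e, he⟩))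
    refine Subtype.ext (Subtype.ext (show ((x : M) : G) = 1 from ?_))
    rw [← hg]
    refine FaithfulSMul.eq_of_smul_eq_smul (α := Ω) fun c => ?_
    rw [one_smul]
    by_cases hca : c = a
    · rw [hca, hga]
    obtain ⟨u, hu, huM, rfl⟩ := htrU c hca
    rw [smul_smul, k.odd_central hZM hMn hRM hga hgb hodd hgZ hu huM, mul_smul, hgb]
  refine wg_ne hc ?_ hQcard hW
  intro x
  obtain ⟨i, hi⟩ := k.two ⟨((x : invClosure M) : M), x.2⟩
  exact ⟨i, Subtype.ext (Subtype.ext (Subtype.ext (congrArg Subtype.val hi :)))⟩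

end KC

/-- The elements of `U` fixing a second point act trivially. -/
theorem triv : ∀ n : ℕ, Triv.{u, v} n := by
  intro n
  induction n with
  | zero => intro G Ω _ _ _ a b U hlt; omega
  | succ n ih =>
    intro G Ω _ _ _ a b U hlt h x hx hxb c
    by_cases hk : (toPermHom G Ω).ker = ⊥
    · haveI : FaithfulSMul G Ω := ⟨fun {g g'} hgg => by
        have h1 : g⁻¹ * g' ∈ (toPermHom G Ω).ker := Equiv.ext fun d => by
          show (g⁻¹ * g') • d = d
          rw [mul_smul, ← hgg d, inv_smul_smul]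
        rw [hk, Subgroup.mem_bot] at h1
        exact inv_mul_eq_one.1 h1⟩
      by_cases hR : rg U b = ⊥
      · have : x ∈ rg U b := Subgroup.mem_inf.2 ⟨hx, hxb⟩
        rw [hR, Subgroup.mem_bot] at this
        rw [this, one_smul]
      obtain ⟨w, r, j, k⟩ := exists_KC h (fun G' Ω' _ _ _ a' b' U' hlt' h' =>
        ih G' Ω' a' b' U' (by omega) h') hR
      exact k.false.elim
    · letI : MulAction (G ⧸ (toPermHom G Ω).ker) Ω :=
        MulAction.compHom Ω (QuotientGroup.kerLift (toPermHom G Ω))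
      have hlt' : Nat.card (G ⧸ (toPermHom G Ω).ker) < n := by
        refine lt_of_lt_of_le ?_ (Nat.lt_succ_iff.1 hlt)
        rw [Subgroup.card_eq_card_quotient_mul_card_subgroup (toPermHom G Ω).ker]
        refine lt_mul_right Nat.card_pos ?_
        rw [Finite.one_lt_card_iff_nontrivial]
        exact (Subgroup.nontrivial_iff_ne_bot _).2 hk
      exact ih _ Ω a b _ hlt' (quot h) _ (Subgroup.mem_map_of_mem _ hx) hxb c

/-- **A nilpotent normal transitive subgroup containing the two-parts, with two central involutions, is regular.** -/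
theorem regular [FaithfulSMul G Ω] (h : NR G Ω a b U) : ∀ u ∈ U, u • b = b → u = 1 := fun u hu hub =>
  FaithfulSMul.eq_of_smul_eq_smul (α := Ω) fun c => by
    rw [one_smul]
    exact triv (Nat.card G + 1) G Ω a b U (Nat.lt_succ_self _) h u hu hub c

end Cfsg.Agent.Lie.R1C.Reg
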