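import Cfsg.Agent.Lib.Lie.SplitRankOne.Regular.Count

/-!
The layers of `U` around a low involution `r` of `rg U b`: the normalizer of the centraliser of `r` is `T * R`,
with `T` abelian of exponent four, and `R` is elementary abelian.
-/

set_option autoImplicit false
set_option linter.unusedSectionVars false
set_option linter.unusedSimpArgs false
set_option linter.style.haveILetI false

namespace Cfsg.Agent.Lie.R1C.Reg

open Cfsg MulAction

universe u v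

variable {G : Type u} {Ω : Type v} [Group G] [MulAction G Ω] [Finite G] {a b : Ω} {U : Subgroup G}

/-- The second layer. -/
def U2 (U : Subgroup G) (b : Ω) : Subgroup G := U ⊓ Subgroup.normalizer (n1 U b : Set G)

/-- The low part of the second layer. -/
def Tg (U : Subgroup G) (b : Ω) (j : ℕ) : Subgroup G := U2 U b ⊓ Zu U j

/-- The displacement of `r` by `v`. -/
def dl (r v : G) : G := r * v * r⁻¹ * v⁻¹

/-- The component in `rg U b` along the low part. -/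
noncomputable def prj (U : Subgroup G) (b : Ω) (j : ℕ) (u : G) : G := by
  classical
  exact if h : ∃ y ∈ rg U b, u * y⁻¹ ∈ Tg U b j then h.choose else 1

omit [Finite G] in
theorem dl_mul (r v v' : G) : dl r (v * v') = dl r v * (v * dl r v' * v⁻¹) := by
  simp only [dl]; group

omit [Finite G] in
theorem dl_of_comm {r v : G} (h : r * v = v * r) : dl r v = 1 := by
  rw [dl, h, mul_inv_cancel_right, mul_inv_cancel]

omit [Finite G] in
theorem dl_eq_one {r v : G} (h : dl r v = 1) : r * v = v * r := by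
  rw [dl, mul_inv_eq_one, mul_inv_eq_iff_eq_mul] at h
  exact h

omit [Finite G] in
theorem dl_conj {r g : G} (h : g * r = r * g) (v : G) : dl r (g * v * g⁻¹) = g * dl r v * g⁻¹ := by
  have h2 : r = g * r * g⁻¹ := by rw [h, mul_inv_cancel_right]
  simp only [dl]
  conv_lhs => rw [h2]
  group

namespace KC

variable {w r : G} {j : ℕ} (k : KC G Ω a b U w r j)

include k

theorem ri : r⁻¹ = r := inv_eq_of_mul_eq_one_right k.low.2.2.1

theorem conj_dl (v : G) : v * r * v⁻¹ = r * dl r v := by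
  rw [dl, ← mul_assoc, ← mul_assoc, ← mul_assoc, k.low.2.2.1, one_mul, k.ri]

theorem dl_low {v : G} (hv : v ∈ U) : dl r v ∈ Zu U j := Zu_comm k.low.2.1 hv

theorem R_le_U : rg U b ≤ U := inf_le_left

theorem R_n1 {y : G} (hy : y ∈ rg U b) : y ∈ n1 U b :=
  Subgroup.mem_inf.2 ⟨k.R_le_U hy, Subgroup.le_normalizer hy⟩

theorem Z_n1 {e : G} (he : IsZ U e) : e ∈ n1 U b :=
  haveI := k.faith
  Subgroup.mem_inf.2 ⟨he.1, isZ_nrm k.nr he⟩

theorem Z_R {e : G} (he : IsZ U e) (hR : e ∈ rg U b) : e = 1 :=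
  haveI := k.faith
  semireg k.nr he.1 he.2.2 k.nr.ne.symm (Subgroup.mem_inf.1 hR).2

theorem Z_two (hc : ∀ e : G, IsZ U e → e = 1) : False := by
  haveI := k.faith
  obtain ⟨z, -, hz, -, hz1, -⟩ := exists_pair k.nr
  exact hz1 (hc z hz)

theorem q_four : 4 ≤ Nat.card (zsub U) := by
  haveI := k.faith
  classical
  haveI := Fintype.ofFinite (zsub U)
  obtain ⟨z, z', hz, hz', hz1, hz'1, hne⟩ := exists_pair k.nr
  have h3 : z * z' ≠ 1 := fun e => hne ((eq_inv_of_mul_eq_one_left e).trans (inv_eq_of_mul_eq_one_right hz'.2.1))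
  have h4 : z * z' ≠ z := fun e => hz'1 (mul_eq_left.1 e)
  have h5 : z * z' ≠ z' := fun e => hz1 (mul_eq_right.1 e)
  have hsub : ({1, z, z', z * z'} : Set G) ⊆ zsub U := by
    rintro x (rfl | rfl | rfl | rfl)
    exacts [one_mem _, hz, hz', (zsub U).mul_mem hz hz']
  have hc : ({1, z, z', z * z'} : Set G).ncard = 4 := by
    rw [Set.ncard_insert_of_notMem (by simp [hz1.symm, hz'1.symm, Ne.symm h3]) (Set.toFinite _),
      Set.ncard_insert_of_notMem (by simp [hne, h4.symm]) (Set.toFinite _),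
      Set.ncard_pair h5.symm]
  rw [← hc]
  exact Nat.card_coe_set_eq (zsub U : Set G) ▸ Set.ncard_le_ncard hsub (Set.toFinite _)

theorem n1_decomp {x : G} (hx : x ∈ n1 U b) : ∃ e y, IsZ U e ∧ y ∈ rg U b ∧ x = e * y := by
  haveI := k.faith
  haveI := k.nr.pre
  haveI : Finite Ω := Finite.of_surjective (fun g : G => g • a) fun c => MulAction.exists_smul_eq G a c
  let f : zsub U → orbit (n1 U b) b := fun e => ⟨(e : G) • b, ⟨⟨e, k.Z_n1 e.2⟩, rfl⟩⟩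
  have hf : Function.Injective f := fun e e' h => by
    have h1 : (e' : G)⁻¹ * e ∈ zsub U := mul_mem (inv_mem e'.2) e.2
    exact Subtype.ext (inv_mul_eq_one.1 (k.Z_R h1 ⟨h1.1, by
      show ((e' : G)⁻¹ * e) • b = b
      rw [mul_smul, show (e : G) • b = (e' : G) • b from congrArg Subtype.val h, inv_smul_smul]⟩)).symm
  have hb := hf.bijective_of_nat_card_le (by rw [Nat.card_coe_set_eq, k.count.1])
  obtain ⟨⟨e, he⟩, h⟩ := hb.2 ⟨x • b, ⟨⟨x, hx⟩, rfl⟩⟩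
  have h' : e • b = x • b := congrArg Subtype.val h
  exact ⟨e, e⁻¹ * x, he, Subgroup.mem_inf.2 ⟨mul_mem (inv_mem he.1) (Subgroup.mem_inf.1 hx).1, by
    show (e⁻¹ * x) • b = b
    rw [mul_smul, ← h', inv_smul_smul]⟩, (mul_inv_cancel_left e x).symm⟩

theorem level_one {y : G} (hy : y ∈ rg U b) (hj : y ∈ Zu U j) : y = 1 := by
  have : y ∈ rg U b ⊓ Zu U j := Subgroup.mem_inf.2 ⟨hy, hj⟩
  rwa [k.level, Subgroup.mem_bot] at this

theorem n1_low {x : G} (hx : x ∈ n1 U b) (h : r⁻¹ * x ∈ Zu U j) : IsZ U (r⁻¹ * x) := by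
  obtain ⟨e, y, he, hy, rfl⟩ := k.n1_decomp hx
  have h1 : r⁻¹ * (e * y) = e * (r⁻¹ * y) := by
    rw [← mul_assoc, ← he.2.2 r⁻¹ (inv_mem k.low.1.1), mul_assoc]
  rw [h1] at h ⊢
  have h2 := k.level_one (mul_mem (inv_mem k.low.1) hy) ((Subgroup.mul_mem_cancel_left _ (k.Z_low he)).1 h)
  rwa [h2, mul_one]

theorem dl_n1 {v : G} (hv : v ∈ n1 U b) : dl r v = 1 := dl_of_comm (k.nrm_cent k.low hv)

theorem n1_of_dl {v : G} (hv : v ∈ U) (h : dl r v = 1) : v ∈ n1 U b := k.cent_nrm k.low hv (dl_eq_one h)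

theorem mem_U2 {v : G} (hv : v ∈ U) : v ∈ U2 U b ↔ IsZ U (dl r v) := by
  constructor
  · intro h
    have h1 : v * r * v⁻¹ ∈ n1 U b := nrm_conj (Subgroup.mem_inf.1 h).2 (k.R_n1 k.low.1)
    have h2 := k.n1_low h1 (by rw [k.conj_dl, inv_mul_cancel_left]; exact k.dl_low hv)
    rwa [k.conj_dl, inv_mul_cancel_left] at h2
  · intro h
    refine Subgroup.mem_inf.2 ⟨hv, mem_nrm fun x hx => ?_⟩
    have hxU : v * x * v⁻¹ ∈ U := mul_mem (mul_mem hv (Subgroup.mem_inf.1 hx).1) (inv_mem hv)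
    refine k.cent_nrm k.low hxU ?_
    have h1 : Commute (v * r * v⁻¹) (v * x * v⁻¹) := by
      show _ = _
      rw [show v * r * v⁻¹ * (v * x * v⁻¹) = v * (r * x) * v⁻¹ by group, k.nrm_cent k.low hx]
      group
    have e : r = v * r * v⁻¹ * dl r v := by rw [k.conj_dl, mul_assoc, h.2.1, mul_one]
    exact e ▸ (h1.mul_left (h.2.2 _ hxU)).eq

theorem n1_U2 {x : G} (hx : x ∈ n1 U b) : x ∈ U2 U b :=
  Subgroup.mem_inf.2 ⟨(Subgroup.mem_inf.1 hx).1, Subgroup.le_normalizer hx⟩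

theorem dl_mul_U2 {v v' : G} (hv : v ∈ U) (hv' : v' ∈ U2 U b) : dl r (v * v') = dl r v * dl r v' := by
  have h := (k.mem_U2 (Subgroup.mem_inf.1 hv').1).1 hv'
  rw [dl_mul, ← h.2.2 v hv, mul_inv_cancel_right]

theorem dl_mul_n1 {v x : G} (hv : v ∈ U) (hx : x ∈ n1 U b) : dl r (v * x) = dl r v := by
  rw [k.dl_mul_U2 hv (k.n1_U2 hx), k.dl_n1 hx, mul_one]

theorem Z_T {e : G} (he : IsZ U e) : e ∈ Tg U b j := Subgroup.mem_inf.2 ⟨k.n1_U2 (k.Z_n1 he), k.Z_low he⟩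

theorem T_U {t : G} (ht : t ∈ Tg U b j) : t ∈ U := (Subgroup.mem_inf.1 (Subgroup.mem_inf.1 ht).1).1

theorem T_U2 {t : G} (ht : t ∈ Tg U b j) : t ∈ U2 U b := (Subgroup.mem_inf.1 ht).1

theorem T_R {t : G} (ht : t ∈ Tg U b j) (hR : t ∈ rg U b) : t = 1 := k.level_one hR (Subgroup.mem_inf.1 ht).2

theorem T_n1 {t : G} (ht : t ∈ Tg U b j) (hn : t ∈ n1 U b) : IsZ U t := by
  obtain ⟨e, y, he, hy, rfl⟩ := k.n1_decomp hn
  rw [k.level_one hy ((Subgroup.mul_mem_cancel_left _ (k.Z_low he)).1 (Subgroup.mem_inf.1 ht).2), mul_one]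
  exact he

theorem conj_n1 {g : G} (hga : g • a = a) (hgb : g • b = b) {x : G} (hx : x ∈ n1 U b) :
    g * x * g⁻¹ ∈ n1 U b := by
  have hg : g ∈ Subgroup.normalizer (rg U b : Set G) := mem_nrm fun y hy => rg_conj k.nr hga hgb hy
  exact Subgroup.mem_inf.2 ⟨conj_U k.nr hga (Subgroup.mem_inf.1 hx).1,
    mul_mem (mul_mem hg (Subgroup.mem_inf.1 hx).2) (inv_mem hg)⟩

theorem conj_U2 {g : G} (hga : g • a = a) (hgb : g • b = b) {x : G} (hx : x ∈ U2 U b) :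
    g * x * g⁻¹ ∈ U2 U b := by
  have hg : g ∈ Subgroup.normalizer (n1 U b : Set G) := mem_nrm fun y hy => k.conj_n1 hga hgb hy
  exact Subgroup.mem_inf.2 ⟨conj_U k.nr hga (Subgroup.mem_inf.1 hx).1,
    mul_mem (mul_mem hg (Subgroup.mem_inf.1 hx).2) (inv_mem hg)⟩

theorem conj_T {g : G} (hga : g • a = a) (hgb : g • b = b) {x : G} (hx : x ∈ Tg U b j) :
    g * x * g⁻¹ ∈ Tg U b j :=
  Subgroup.mem_inf.2 ⟨k.conj_U2 hga hgb (k.T_U2 hx), Zu_conj k.nr (Subgroup.mem_inf.1 hx).2 hga⟩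

/-- The centraliser of `rg U b` moves the central involutions transitively. -/
theorem mover {e e' : G} (he : IsZ U e) (he1 : e ≠ 1) (he' : IsZ U e') (he'1 : e' ≠ 1) :
    ∃ g : G, g • a = a ∧ g • b = b ∧ (∀ y ∈ rg U b, g * y = y * g) ∧ g * e * g⁻¹ = e' :=
  haveI := k.faith
  (nrm_data k.nr k.ih).2 e e' he he1 he' he'1

theorem U2_ne : U2 U b ≠ U := by
  intro h
  choose s hs hse using fun e : zsub U => k.count.2.2 e e.2
  have hdl : ∀ v : U, IsZ U (dl r v) := fun v => (k.mem_U2 v.2).1 (h.symm ▸ v.2)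
  have hse' : ∀ e : zsub U, dl r (s e) = e := fun e => by
    have := hse e
    rwa [k.conj_dl, mul_right_inj] at this
  let f : U → zsub U × n1 U b := fun v => (⟨dl r v, hdl v⟩, ⟨(s ⟨dl r v, hdl v⟩)⁻¹ * v, by
    refine k.n1_of_dl (mul_mem (inv_mem (hs _)) v.2) ?_
    have h1 := k.dl_mul_U2 (hs ⟨dl r v, hdl v⟩) (v' := (s ⟨dl r v, hdl v⟩)⁻¹ * v)
      (h.symm ▸ mul_mem (inv_mem (hs _)) v.2)
    rw [mul_inv_cancel_left, hse'] at h1
    exact left_eq_mul.1 h1⟩)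
  have hf : Function.Injective f := fun v v' e => by
    have e1 : (⟨dl r v, hdl v⟩ : zsub U) = ⟨dl r v', hdl v'⟩ := congrArg Prod.fst e
    have e2 : (s ⟨dl r v, hdl v⟩)⁻¹ * (v : G) = (s ⟨dl r v', hdl v'⟩)⁻¹ * (v' : G) :=
      congrArg (fun p : zsub U × n1 U b => (p.2 : G)) e
    rw [e1] at e2
    exact Subtype.ext (mul_left_cancel e2)
  have h1 := Nat.card_le_card_of_injective f hf
  rw [Nat.card_prod, k.count.2.1, pow_two, mul_assoc] at h1
  have hp := Nat.card_pos (α := n1 U b)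
  have h4 := k.q_four
  have := Nat.le_of_mul_le_mul_right (h1.trans_eq (one_mul _).symm) (Nat.mul_pos (by omega) hp)
  omega

theorem seed : ∃ v ∈ U, v ∈ Subgroup.normalizer (U2 U b : Set G) ∧ dl r v ∈ Tg U b j ∧ ¬ IsZ U (dl r v) := by
  haveI := k.nr.nil
  have hlt : (U2 U b).subgroupOf U < ⊤ := lt_top_iff_ne_top.2 fun e =>
    k.U2_ne (le_antisymm inf_le_left (Subgroup.subgroupOf_eq_top.1 e))
  obtain ⟨⟨v, hv⟩, hvn, hvn'⟩ :=
    SetLike.exists_of_lt (Group.normalizerCondition_of_isNilpotent ((U2 U b).subgroupOf U) hlt)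
  have hN : v ∈ Subgroup.normalizer (U2 U b : Set G) := mem_nrm fun x hx =>
    Subgroup.mem_subgroupOf.1 (nrm_conj hvn
      (Subgroup.mem_subgroupOf.2 hx : (⟨x, (Subgroup.mem_inf.1 hx).1⟩ : U) ∈ (U2 U b).subgroupOf U))
  refine ⟨v, hv, hN, Subgroup.mem_inf.2 ⟨?_, k.dl_low hv⟩,
    fun h => hvn' (Subgroup.mem_subgroupOf.2 ((k.mem_U2 hv).2 h))⟩
  have h1 := nrm_conj hN (k.n1_U2 (k.R_n1 k.low.1))
  rw [k.conj_dl] at h1
  exact (Subgroup.mul_mem_cancel_left _ (k.n1_U2 (k.R_n1 k.low.1))).1 h1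

/-- The seed element of `T` and its translate. -/
theorem seed_sq : ∃ v t, v ∈ U ∧ v ∈ Subgroup.normalizer (U2 U b : Set G) ∧ t ∈ Tg U b j ∧ dl r v = t ∧
    dl r t = t * t ∧ IsZ U (t * t) ∧ t * t ≠ 1 := by
  obtain ⟨v, hv, hvN, ht, hnz⟩ := k.seed
  obtain ⟨t, hte⟩ : ∃ t, t = dl r v := ⟨_, rfl⟩
  rw [← hte] at ht hnz
  have hinv : r * t * (r * t) = 1 := by
    rw [hte, ← k.conj_dl, show v * r * v⁻¹ * (v * r * v⁻¹) = v * (r * r) * v⁻¹ by group, k.low.2.2.1]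
    group
  have h2 : dl r t = t⁻¹ * t⁻¹ := by
    rw [dl, k.ri, ← eq_inv_of_mul_eq_one_left (show r * t * r * t = 1 by rwa [mul_assoc (r * t) r t])]
  have hZ : IsZ U (dl r t) := (k.mem_U2 (k.T_U ht)).1 (k.T_U2 ht)
  have h3 : dl r t = t * t := by
    have h4 : (dl r t)⁻¹ = dl r t := inv_eq_of_mul_eq_one_right hZ.2.1
    rw [← h4, h2, _root_.mul_inv_rev, inv_inv]
  exact ⟨v, t, hv, hvN, ht, hte.symm, h3, h3 ▸ hZ,
    fun e => hnz (k.T_n1 ht (k.n1_of_dl (k.T_U ht) (h3.trans e)))⟩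

theorem T_root {e : G} (he : IsZ U e) : ∃ t ∈ Tg U b j, dl r t = e ∧ t * t = e := by
  by_cases he1 : e = 1
  · exact ⟨1, one_mem _, by rw [he1]; simp [dl], by rw [he1, one_mul]⟩
  obtain ⟨v, t, hv, hvN, ht, -, h3, hZ, hne⟩ := k.seed_sq
  obtain ⟨g, hga, hgb, hgR, hge⟩ := k.mover hZ hne he he1
  exact ⟨g * t * g⁻¹, k.conj_T hga hgb ht, by rw [dl_conj (hgR r k.low.1), h3, hge], by
    rw [← hge]; group⟩

theorem T_sq {t : G} (ht : t ∈ Tg U b j) : dl r t = t * t := by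
  have hZ := (k.mem_U2 (k.T_U ht)).1 (k.T_U2 ht)
  obtain ⟨s, hs, hs1, hs2⟩ := k.T_root hZ
  have hx : IsZ U (s⁻¹ * t) := k.T_n1 (mul_mem (inv_mem hs) ht)
    (k.n1_of_dl (mul_mem (inv_mem (k.T_U hs)) (k.T_U ht)) (by
      have h1 := k.dl_mul_U2 (k.T_U hs) (v' := s⁻¹ * t) (mul_mem (inv_mem (k.T_U2 hs)) (k.T_U2 ht))
      rw [mul_inv_cancel_left, hs1] at h1
      exact left_eq_mul.1 h1))
  obtain ⟨z, hz⟩ : ∃ z, z = s⁻¹ * t := ⟨_, rfl⟩
  rw [← hz] at hx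
  calc dl r t = s * s * (z * z) := by rw [hx.2.1, mul_one, hs2]
    _ = s * (s * z) * z := by group
    _ = s * (z * s) * z := by rw [hx.2.2 s (k.T_U hs)]
    _ = t * t := by rw [hz]; group

theorem T_sq_Z {t : G} (ht : t ∈ Tg U b j) : IsZ U (t * t) :=
  k.T_sq ht ▸ (k.mem_U2 (k.T_U ht)).1 (k.T_U2 ht)

theorem T_comm {s t : G} (hs : s ∈ Tg U b j) (ht : t ∈ Tg U b j) : s * t = t * s := by
  have h := k.dl_mul_U2 (k.T_U hs) (k.T_U2 ht)
  rw [k.T_sq hs, k.T_sq ht, k.T_sq (mul_mem hs ht)] at h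
  have h' : s * (t * s) * t = s * (s * t) * t := by simpa only [mul_assoc] using h
  exact (mul_left_cancel (mul_right_cancel h')).symm

theorem onto {t : G} (ht : t ∈ Tg U b j) :
    ∃ v ∈ U, v ∈ Subgroup.normalizer (U2 U b : Set G) ∧ dl r v = t := by
  have hcount : ∀ {e : G}, IsZ U e → ∃ u ∈ U2 U b, dl r u = e := fun {e} he => by
    obtain ⟨u, hu, hue⟩ := k.count.2.2 e he
    rw [k.conj_dl, mul_right_inj] at hue
    exact ⟨u, (k.mem_U2 hu).2 (hue.symm ▸ he), hue⟩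
  by_cases h1 : t * t = 1
  · obtain ⟨u, hu, hue⟩ := hcount (k.T_n1 ht (k.n1_of_dl (k.T_U ht) ((k.T_sq ht).trans h1)))
    exact ⟨u, (Subgroup.mem_inf.1 hu).1, Subgroup.le_normalizer hu, hue⟩
  obtain ⟨v₀, t₀, hv₀, hvN, ht₀, hd₀, -, hZ, hne⟩ := k.seed_sq
  obtain ⟨g, hga, hgb, hgR, hge⟩ := k.mover hZ hne (k.T_sq_Z ht) h1
  obtain ⟨t', ht'e⟩ : ∃ t', t' = g * t₀ * g⁻¹ := ⟨_, rfl⟩
  have ht' : t' ∈ Tg U b j := ht'e ▸ k.conj_T hga hgb ht₀
  have hsq : t' * t' = t * t := by rw [← hge, ht'e]; group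
  have hz : t'⁻¹ * t * (t'⁻¹ * t) = 1 := by
    have hc : Commute t'⁻¹ t := (show Commute t' t from k.T_comm ht' ht).inv_left
    calc t'⁻¹ * t * (t'⁻¹ * t) = t'⁻¹ * (t * t'⁻¹) * t := by group
      _ = t'⁻¹ * (t'⁻¹ * t) * t := by rw [hc.eq]
      _ = (t' * t')⁻¹ * (t * t) := by group
      _ = 1 := by rw [hsq, inv_mul_cancel]
  obtain ⟨u, hu, hue⟩ := hcount (k.T_n1 (mul_mem (inv_mem ht') ht)
    (k.n1_of_dl (mul_mem (inv_mem (k.T_U ht')) (k.T_U ht))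
      ((k.T_sq (mul_mem (inv_mem ht') ht)).trans hz)))
  have hgN : g ∈ Subgroup.normalizer (U2 U b : Set G) := mem_nrm fun x hx => k.conj_U2 hga hgb hx
  have hv' : g * v₀ * g⁻¹ ∈ U := conj_U k.nr hga hv₀
  refine ⟨g * v₀ * g⁻¹ * u, mul_mem hv' (Subgroup.mem_inf.1 hu).1,
    mul_mem (mul_mem (mul_mem hgN hvN) (inv_mem hgN)) (Subgroup.le_normalizer hu), ?_⟩
  rw [k.dl_mul_U2 hv' hu, dl_conj (hgR r k.low.1), hd₀, hue, ← ht'e, mul_inv_cancel_left]

theorem all_U {v : G} (hv : v ∈ U) : dl r v ∈ Tg U b j ∧ v ∈ Subgroup.normalizer (U2 U b : Set G) := by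
  classical
  choose ρ hρ hρ1 hρ2 using fun e : zsub U => k.T_root e.2
  choose φ hφ hφN hφd using fun t : Tg U b j => k.onto t.2
  let p : zsub U × zsub U → Tg U b j := fun x => ⟨ρ x.1 * x.2, mul_mem (hρ _) (k.Z_T x.2.2)⟩
  let f : (zsub U × zsub U) × n1 U b → U := fun x =>
    ⟨φ (p x.1) * x.2, mul_mem (hφ _) (Subgroup.mem_inf.1 x.2.2).1⟩
  have hd : ∀ x, dl r (f x : G) = (p x.1 : G) := fun x => by
    show dl r (φ (p x.1) * x.2) = _
    rw [k.dl_mul_n1 (hφ _) x.2.2, hφd]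
  have hf : Function.Injective f := by
    rintro ⟨⟨e1, e2⟩, x⟩ ⟨⟨e1', e2'⟩, x'⟩ h
    have h0 : (p (e1, e2) : G) = p (e1', e2') := by
      rw [← hd ((e1, e2), x), ← hd ((e1', e2'), x'), h]
    have hp : p (e1, e2) = p (e1', e2') := Subtype.ext h0
    have h1 : e1 = e1' := by
      refine Subtype.ext ?_
      have hsq : ∀ e e' : zsub U, ρ e * e' * (ρ e * e') = e := fun e e' => by
        calc ρ e * e' * (ρ e * e') = ρ e * ((e' : G) * ρ e) * e' := by group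
          _ = ρ e * (ρ e * e') * e' := by rw [e'.2.2.2 _ (k.T_U (hρ e))]
          _ = ρ e * ρ e * ((e' : G) * e') := by group
          _ = e := by rw [e'.2.2.1, mul_one, hρ2]
      rw [← hsq e1 e2, ← hsq e1' e2']
      exact congrArg (fun t => t * t) h0
    subst h1
    have h2 : e2 = e2' := Subtype.ext (mul_left_cancel h0)
    subst h2
    have h3 : (x : G) = x' := mul_left_cancel (congrArg Subtype.val h)
    exact Prod.ext rfl (Subtype.ext h3)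
  have hb := hf.bijective_of_nat_card_le (by rw [Nat.card_prod, Nat.card_prod, k.count.2.1, pow_two])
  obtain ⟨x, hx⟩ := hb.2 ⟨v, hv⟩
  have hxv : (f x : G) = v := congrArg Subtype.val hx
  rw [← hxv]
  exact ⟨hd x ▸ (p x.1).2, mul_mem (hφN _) (Subgroup.le_normalizer (k.n1_U2 x.2.2))⟩

theorem nrm_U2 {v : G} (hv : v ∈ U) {u : G} (hu : u ∈ U2 U b) : v * u * v⁻¹ ∈ U2 U b :=
  nrm_conj (k.all_U hv).2 hu

theorem nrm_T {v : G} (hv : v ∈ U) {t : G} (ht : t ∈ Tg U b j) : v * t * v⁻¹ ∈ Tg U b j :=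
  Subgroup.mem_inf.2 ⟨k.nrm_U2 hv (k.T_U2 ht), Zu_conj k.nr (Subgroup.mem_inf.1 ht).2 (fix_a k.nr hv)⟩

theorem U_T {v : G} (hv : v ∈ U) {t : G} (ht : t ∈ Tg U b j) : IsZ U (t⁻¹ * (v * t * v⁻¹)) := by
  obtain ⟨t', he⟩ : ∃ t', t' = v * t * v⁻¹ := ⟨_, rfl⟩
  rw [← he]
  have ht' : t' ∈ Tg U b j := he ▸ k.nrm_T hv ht
  refine k.T_n1 (mul_mem (inv_mem ht) ht') (k.n1_of_dl (mul_mem (inv_mem (k.T_U ht)) (k.T_U ht')) ?_)
  have hc : Commute t' t⁻¹ := (show Commute t' t from k.T_comm ht' ht).inv_right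
  have hsq : t' * t' = t * t := by
    rw [he, show v * t * v⁻¹ * (v * t * v⁻¹) = v * (t * t) * v⁻¹ by group, ← (k.T_sq_Z ht).2.2 v hv,
      mul_inv_cancel_right]
  rw [k.T_sq (mul_mem (inv_mem ht) ht')]
  calc t⁻¹ * t' * (t⁻¹ * t') = t⁻¹ * (t' * t⁻¹) * t' := by group
    _ = t⁻¹ * (t⁻¹ * t') * t' := by rw [hc.eq]
    _ = (t * t)⁻¹ * (t' * t') := by group
    _ = 1 := by rw [hsq, inv_mul_cancel]

/-- The square of the displacement. -/
theorem dd_mul {v v' : G} (hv : v ∈ U) (hv' : v' ∈ U) :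
    dl r (v * v') * dl r (v * v') = dl r v * dl r v * (dl r v' * dl r v') := by
  have h1 := (k.all_U hv).1
  have h2 := k.nrm_T hv (k.all_U hv').1
  rw [dl_mul]
  calc dl r v * (v * dl r v' * v⁻¹) * (dl r v * (v * dl r v' * v⁻¹))
      = dl r v * ((v * dl r v' * v⁻¹) * dl r v) * (v * dl r v' * v⁻¹) := by group
    _ = dl r v * (dl r v * (v * dl r v' * v⁻¹)) * (v * dl r v' * v⁻¹) := by rw [k.T_comm h2 h1]
    _ = dl r v * dl r v * (v * (dl r v' * dl r v') * v⁻¹) := by group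
    _ = _ := by rw [← (k.T_sq_Z (k.all_U hv').1).2.2 v hv, mul_inv_cancel_right]

theorem dd_Z {v : G} (hv : v ∈ U) : IsZ U (dl r v * dl r v) := k.T_sq_Z (k.all_U hv).1

theorem mem_U2' {v : G} (hv : v ∈ U) : v ∈ U2 U b ↔ dl r v * dl r v = 1 := by
  rw [k.mem_U2 hv]
  refine ⟨fun h => h.2.1, fun h => ?_⟩
  have ht := (k.all_U hv).1
  exact k.T_n1 ht (k.n1_of_dl (k.T_U ht) ((k.T_sq ht).trans h))

theorem sq_U2 {v : G} (hv : v ∈ U) : v * v ∈ U2 U b := by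
  rw [k.mem_U2' (mul_mem hv hv), k.dd_mul hv hv, (k.dd_Z hv).2.1]

theorem dd_onto {e : G} (he : IsZ U e) : ∃ v ∈ U, dl r v * dl r v = e := by
  obtain ⟨t, ht, -, hte⟩ := k.T_root he
  obtain ⟨v, hv, -, hvt⟩ := k.onto ht
  exact ⟨v, hv, by rw [hvt, hte]⟩

/-- A function on the cosets of the second layer invariant under the movers is constant off it. -/
theorem same {β : Type*} (f : G → β) (hf : ∀ v ∈ U, ∀ u ∈ U2 U b, f (v * u) = f v)
    (hinv : ∀ g : G, g • a = a → g • b = b → (∀ y ∈ rg U b, g * y = y * g) → ∀ v ∈ U, f (g * v * g⁻¹) = f v)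
    {v v' : G} (hv : v ∈ U) (hv2 : v ∉ U2 U b) (hv' : v' ∈ U) (hv'2 : v' ∉ U2 U b) : f v = f v' := by
  obtain ⟨g, hga, hgb, hgR, hge⟩ := k.mover (k.dd_Z hv) (fun e => hv2 ((k.mem_U2' hv).2 e)) (k.dd_Z hv')
    fun e => hv'2 ((k.mem_U2' hv').2 e)
  obtain ⟨x, hx⟩ : ∃ x, x = g * v * g⁻¹ := ⟨_, rfl⟩
  have hxU : x ∈ U := hx ▸ conj_U k.nr hga hv
  have hdx : dl r x * dl r x = dl r v' * dl r v' := by
    rw [← hge, hx, dl_conj (hgR r k.low.1)]; group
  have hu : x⁻¹ * v' ∈ U2 U b := by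
    have hm := mul_mem (inv_mem hxU) hv'
    have h1 := k.dd_mul hxU hm
    rw [mul_inv_cancel_left, hdx] at h1
    exact (k.mem_U2' hm).2 (left_eq_mul.1 h1)
  have h2 := hf x hxU _ hu
  rw [mul_inv_cancel_left] at h2
  rw [h2, hx, hinv g hga hgb hgR v hv]

/-- An invariant representation of `U` trivial on the second layer is trivial. -/
theorem const {M : Type*} [Monoid M] (f : G → M) (hmul : ∀ v ∈ U, ∀ v' ∈ U, f (v * v') = f v * f v')
    (hker : ∀ u ∈ U2 U b, f u = 1)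
    (hinv : ∀ g : G, g • a = a → g • b = b → (∀ y ∈ rg U b, g * y = y * g) → ∀ v ∈ U, f (g * v * g⁻¹) = f v)
    {v : G} (hv : v ∈ U) : f v = 1 := by
  by_cases hv2 : v ∈ U2 U b
  · exact hker v hv2
  have hf : ∀ x ∈ U, ∀ u ∈ U2 U b, f (x * u) = f x := fun x hx u hu => by
    rw [hmul x hx u (Subgroup.mem_inf.1 hu).1, hker u hu, mul_one]
  obtain ⟨e', he', he'1, he'2⟩ : ∃ e', IsZ U e' ∧ e' ≠ 1 ∧ e' ≠ dl r v * dl r v := by
    haveI := k.faith
    obtain ⟨z, z', hz, hz', hz1, hz'1, hne⟩ := exists_pair k.nr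
    by_cases h : z = dl r v * dl r v
    · exact ⟨z', hz', hz'1, fun e => hne (h.trans e.symm)⟩
    · exact ⟨z, hz, hz1, h⟩
  obtain ⟨v', hv', hve⟩ := k.dd_onto he'
  have hv'2 : v' ∉ U2 U b := fun h => he'1 (hve ▸ (k.mem_U2' hv').1 h)
  have hvv' : v * v' ∉ U2 U b := fun h => by
    have h1 := (k.mem_U2' (mul_mem hv hv')).1 h
    rw [k.dd_mul hv hv', hve] at h1
    exact he'2 (by
      rw [eq_inv_of_mul_eq_one_left h1, inv_eq_of_mul_eq_one_right he'.2.1])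
  have h1 : f v' = f v := (k.same f hf hinv hv hv2 hv' hv'2).symm
  have h2 : f (v * v') = f v := (k.same f hf hinv hv hv2 (mul_mem hv hv') hvv').symm
  rw [hmul v hv v' hv', h1] at h2
  have hvi : v⁻¹ ∉ U2 U b := fun h => hv2 (by simpa using inv_mem h)
  have h3 : f v⁻¹ = f v := (k.same f hf hinv hv hv2 (inv_mem hv) hvi).symm
  have h4 := hmul v hv v⁻¹ (inv_mem hv)
  rw [mul_inv_cancel, hker 1 (one_mem _), h3, h2] at h4
  exact h4.symm

/-- The low involution is unique. -/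
theorem low_unique {s : G} (hs : Low U b j s) : s = r := by
  have k' : KC G Ω a b U w s j := { k with low := hs }
  by_contra hne
  obtain ⟨x, hx⟩ : ∃ x, x = s * r := ⟨_, rfl⟩
  have hxl : Low U b j x := by
    subst hx
    refine ⟨mul_mem hs.1 k.low.1, mul_mem hs.2.1 k.low.2.1, ?_, fun e => hne ?_⟩
    · calc s * r * (s * r) = s * (r * s) * r := by group
        _ = s * (s * r) * r := by rw [k.low_comm k.low hs.1]
        _ = 1 := by rw [← mul_assoc s s, hs.2.2.1, one_mul, k.low.2.2.1]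
    · rw [eq_inv_of_mul_eq_one_left e, k.ri]
  have k'' : KC G Ω a b U w x j := { k with low := hxl }
  obtain ⟨v, t, -, -, ht, -, -, -, hne'⟩ := k.seed_sq
  apply hne'
  rw [← k''.T_sq ht, dl_of_comm]
  have h1 : dl r t = dl s t := (k.T_sq ht).trans (k'.T_sq ht).symm
  simp only [dl, mul_left_inj] at h1
  calc x * t = s * (r * t * r⁻¹) * r := by rw [hx]; group
    _ = s * (s * t * s⁻¹) * r := by rw [h1]
    _ = t * x := by rw [← mul_assoc s, ← mul_assoc s, hs.2.2.1, one_mul, k'.ri, hx, mul_assoc]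

theorem fix_r {g : G} (hga : g • a = a) (hgb : g • b = b) : g * r = r * g := by
  have h : g * r * g⁻¹ = r := k.low_unique ⟨rg_conj k.nr hga hgb k.low.1, Zu_conj k.nr k.low.2.1 hga, by
    rw [show g * r * g⁻¹ * (g * r * g⁻¹) = g * (r * r) * g⁻¹ by group, k.low.2.2.1]; group,
    fun e => k.low.2.2.2 (conj_eq_one_iff.1 e)⟩
  exact mul_inv_eq_iff_eq_mul.1 h

theorem prj_spec {u : G} (hu : u ∈ U2 U b) :
    prj U b j u ∈ rg U b ∧ u * (prj U b j u)⁻¹ ∈ Tg U b j := by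
  have hex : ∃ y ∈ rg U b, u * y⁻¹ ∈ Tg U b j := by
    have huU := (Subgroup.mem_inf.1 hu).1
    obtain ⟨t, ht, hte, -⟩ := k.T_root ((k.mem_U2 huU).1 hu)
    have hn : t⁻¹ * u ∈ n1 U b := k.n1_of_dl (mul_mem (inv_mem (k.T_U ht)) huU) (by
      have h1 := k.dl_mul_U2 (k.T_U ht) (v' := t⁻¹ * u) (mul_mem (inv_mem (k.T_U2 ht)) hu)
      rw [mul_inv_cancel_left, hte] at h1
      exact left_eq_mul.1 h1)
    obtain ⟨e, y, he, hy, hey⟩ := k.n1_decomp hn
    refine ⟨y, hy, ?_⟩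
    rw [show u = t * e * y by rw [mul_assoc, ← hey, mul_inv_cancel_left], mul_inv_cancel_right]
    exact mul_mem ht (k.Z_T he)
  unfold prj
  rw [dif_pos hex]
  exact hex.choose_spec

theorem prj_eq {u y : G} (hy : y ∈ rg U b) (h : u * y⁻¹ ∈ Tg U b j) : prj U b j u = y := by
  have hu : u ∈ U2 U b := by
    have := mul_mem (k.T_U2 h) (k.n1_U2 (k.R_n1 hy))
    rwa [inv_mul_cancel_right] at this
  obtain ⟨h1, h2⟩ := k.prj_spec hu
  have h3 : y * (prj U b j u)⁻¹ ∈ Tg U b j := by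
    have := mul_mem (inv_mem h) h2
    rwa [_root_.mul_inv_rev, inv_inv, mul_assoc, inv_mul_cancel_left] at this
  exact (mul_inv_eq_one.1 (k.T_R h3 (mul_mem hy (inv_mem h1)))).symm

theorem prj_R {y : G} (hy : y ∈ rg U b) : prj U b j y = y :=
  k.prj_eq hy (by rw [mul_inv_cancel]; exact one_mem _)

theorem prj_T {t : G} (ht : t ∈ Tg U b j) : prj U b j t = 1 :=
  k.prj_eq (one_mem _) (by rwa [inv_one, mul_one])

theorem prj_mul {u u' : G} (hu : u ∈ U2 U b) (hu' : u' ∈ U2 U b) :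
    prj U b j (u * u') = prj U b j u * prj U b j u' := by
  obtain ⟨h1, h2⟩ := k.prj_spec hu
  obtain ⟨h3, h4⟩ := k.prj_spec hu'
  refine k.prj_eq (mul_mem h1 h3) ?_
  rw [show u * u' * (prj U b j u * prj U b j u')⁻¹ =
    u * (prj U b j u)⁻¹ * (prj U b j u * (u' * (prj U b j u')⁻¹) * (prj U b j u)⁻¹) by group]
  exact mul_mem h2 (k.nrm_T (k.R_le_U h1) h4)

theorem prj_conj {v u : G} (hv : v ∈ U) (hu : u ∈ U2 U b) :
    prj U b j (v * u * v⁻¹) = prj U b j (v * prj U b j u * v⁻¹) := by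
  obtain ⟨h1, h2⟩ := k.prj_spec hu
  rw [show v * u * v⁻¹ = v * (u * (prj U b j u)⁻¹) * v⁻¹ * (v * prj U b j u * v⁻¹) by group,
    k.prj_mul (k.nrm_U2 hv (k.T_U2 h2)) (k.nrm_U2 hv (k.n1_U2 (k.R_n1 h1))), k.prj_T (k.nrm_T hv h2), one_mul]

theorem prj_inv {g : G} (hga : g • a = a) (hgb : g • b = b) (hgR : ∀ y ∈ rg U b, g * y = y * g) {u : G}
    (hu : u ∈ U2 U b) : prj U b j (g * u * g⁻¹) = prj U b j u := by
  obtain ⟨h1, h2⟩ := k.prj_spec hu
  refine k.prj_eq h1 ?_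
  have hc : Commute g⁻¹ (prj U b j u)⁻¹ := (show Commute g (prj U b j u) from hgR _ h1).inv_inv
  rw [mul_assoc (g * u), hc.eq, ← mul_assoc, mul_assoc g u]
  exact k.conj_T hga hgb h2

/-- A central element of `rg U b` is fixed modulo `T` by conjugation. -/
theorem cen_conj {c : G} (hc : c ∈ rg U b) (hcc : ∀ y ∈ rg U b, c * y = y * c) {v : G} (hv : v ∈ U) :
    prj U b j (v * c * v⁻¹) = c := by
  classical
  obtain ⟨C, hC⟩ : ∃ C : Set G, C = {x | x ∈ rg U b ∧ ∀ y ∈ rg U b, x * y = y * x} := ⟨_, rfl⟩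
  have hmem : ∀ x, x ∈ C ↔ x ∈ rg U b ∧ ∀ y ∈ rg U b, x * y = y * x := fun x => by rw [hC]; rfl
  have hU2 : ∀ {y}, y ∈ rg U b → ∀ {v}, v ∈ U → v * y * v⁻¹ ∈ U2 U b := fun hy _ hv =>
    k.nrm_U2 hv (k.n1_U2 (k.R_n1 hy))
  have hstab : ∀ x ∈ C, ∀ v ∈ U, prj U b j (v * x * v⁻¹) ∈ C := by
    intro x hx v hv
    obtain ⟨hxR, hxc⟩ := (hmem x).1 hx
    refine (hmem _).2 ⟨(k.prj_spec (hU2 hxR hv)).1, fun y hy => ?_⟩
    obtain ⟨y', hy'⟩ : ∃ y', y' = prj U b j (v⁻¹ * y * v⁻¹⁻¹) := ⟨_, rfl⟩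
    have hy'R : y' ∈ rg U b := hy' ▸ (k.prj_spec (hU2 hy (inv_mem hv))).1
    have hyy : prj U b j (v * y' * v⁻¹) = y := by
      rw [hy', ← k.prj_conj hv (hU2 hy (inv_mem hv))]
      rw [show v * (v⁻¹ * y * v⁻¹⁻¹) * v⁻¹ = y by group]
      exact k.prj_R hy
    rw [← hyy, ← k.prj_mul (hU2 hxR hv) (hU2 hy'R hv), ← k.prj_mul (hU2 hy'R hv) (hU2 hxR hv)]
    rw [show v * x * v⁻¹ * (v * y' * v⁻¹) = v * (x * y') * v⁻¹ by group, hxc y' hy'R,
      show v * (y' * x) * v⁻¹ = v * y' * v⁻¹ * (v * x * v⁻¹) by group]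
  let f : G → Function.End G := fun v x => if x ∈ C then prj U b j (v * x * v⁻¹) else x
  have hf : f v = 1 := by
    refine k.const (M := Function.End G) f (fun v hv v' hv' => funext fun x => ?_) (fun u hu => funext fun x => ?_)
      (fun g hga hgb hgR v hv => funext fun x => ?_) hv
    · show f (v * v') x = f v (f v' x)
      by_cases hx : x ∈ C
      · have hxR := ((hmem x).1 hx).1
        simp only [f, if_pos hx, if_pos (hstab x hx v' hv')]
        rw [← k.prj_conj hv (hU2 hxR hv'),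
          show v * v' * x * (v * v')⁻¹ = v * (v' * x * v'⁻¹) * v⁻¹ by group]
      · simp only [f, if_neg hx]
    · show f u x = x
      by_cases hx : x ∈ C
      · obtain ⟨hxR, hxc⟩ := (hmem x).1 hx
        obtain ⟨h1, h2⟩ := k.prj_spec hu
        simp only [f, if_pos hx]
        have hxU2 := k.n1_U2 (k.R_n1 hxR)
        rw [k.prj_mul (mul_mem hu hxU2) (inv_mem hu), k.prj_mul hu hxU2, k.prj_R hxR, ← hxc _ h1, mul_assoc,
          ← k.prj_mul hu (inv_mem hu), mul_inv_cancel, k.prj_T (one_mem _), mul_one]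
      · simp only [f, if_neg hx]
    · show f (g * v * g⁻¹) x = f v x
      by_cases hx : x ∈ C
      · have hxR := ((hmem x).1 hx).1
        simp only [f, if_pos hx]
        have hgx : g⁻¹ * x * g = x := by rw [mul_assoc, ← hgR x hxR, inv_mul_cancel_left]
        rw [show g * v * g⁻¹ * x * (g * v * g⁻¹)⁻¹ = g * (v * (g⁻¹ * x * g) * v⁻¹) * g⁻¹ by group, hgx,
          k.prj_inv hga hgb hgR (hU2 hxR hv)]
      · simp only [f, if_neg hx]
  have := congrFun hf c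
  simp only [f, if_pos ((hmem c).2 ⟨hc, hcc⟩)] at this
  exact this

/-- No nontrivial element of `rg U b` centralises `T`. -/
theorem R_faith {y : G} (hy : y ∈ rg U b) (hyT : ∀ t ∈ Tg U b j, y * t = t * y) : y = 1 := by
  classical
  haveI := k.faith
  haveI := k.nr.pre
  by_contra hy1
  let D : G → Prop := fun c => c ∈ rg U b ∧ c ≠ 1 ∧ ∀ t ∈ Tg U b j, c * t = t * c
  obtain ⟨n, hn⟩ := Zu_top k.nr.nil
  have hex : ∃ i c, D c ∧ c ∈ Zu U i := ⟨n, y, ⟨hy, hy1, hyT⟩, hn.symm ▸ k.R_le_U hy⟩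
  obtain ⟨c, ⟨hcR, hc1, hcT⟩, hci⟩ := Nat.find_spec hex
  obtain ⟨i, hi⟩ : ∃ i, Nat.find hex = i + 1 := by
    refine Nat.exists_eq_succ_of_ne_zero fun e => ?_
    rw [e, Zu_zero, Subgroup.mem_bot] at hci
    exact hc1 hci
  rw [hi] at hci
  have hcc : ∀ x ∈ rg U b, c * x = x * c := by
    intro x hx
    by_contra hne
    refine Nat.find_min hex (show i < Nat.find hex by omega) ⟨c * x * c⁻¹ * x⁻¹,
      ⟨mul_mem (mul_mem (mul_mem hcR hx) (inv_mem hcR)) (inv_mem hx), fun e => hne ?_, fun t ht => ?_⟩,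
      Zu_comm hci (k.R_le_U hx)⟩
    · rwa [mul_inv_eq_one, mul_inv_eq_iff_eq_mul] at e
    · have h1 : Commute c t := hcT t ht
      have h2 : Commute (x * c⁻¹ * x⁻¹) t := by
        have h3 : Commute c⁻¹ (x⁻¹ * t * x⁻¹⁻¹) :=
          (show Commute c _ from hcT _ (k.nrm_T (inv_mem (k.R_le_U hx)) ht)).inv_left
        show _ = _
        calc x * c⁻¹ * x⁻¹ * t = x * (c⁻¹ * (x⁻¹ * t * x⁻¹⁻¹)) * x⁻¹ := by group
          _ = x * (x⁻¹ * t * x⁻¹⁻¹ * c⁻¹) * x⁻¹ := by rw [h3.eq]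
          _ = t * (x * c⁻¹ * x⁻¹) := by group
      rw [show c * x * c⁻¹ * x⁻¹ = c * (x * c⁻¹ * x⁻¹) by group]
      exact (h1.mul_left h2).eq
  have hcU2 : ∀ u ∈ U2 U b, c * u = u * c := by
    intro u hu
    obtain ⟨h1, h2⟩ := k.prj_spec hu
    have h3 := ((show Commute c _ from hcT _ h2).mul_right (hcc _ h1))
    rw [inv_mul_cancel_right] at h3
    exact h3.eq
  have hconj : ∀ v ∈ U, IsZ U (c⁻¹ * (v * c * v⁻¹)) := by
    intro v hv
    have hvc : v * c * v⁻¹ ∈ n1 U b := by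
      refine k.cent_nrm k.low (mul_mem (mul_mem hv (k.R_le_U hcR)) (inv_mem hv)) ?_
      have hr2 : v⁻¹ * r * v⁻¹⁻¹ ∈ U2 U b := k.nrm_U2 (inv_mem hv) (k.n1_U2 (k.R_n1 k.low.1))
      calc r * (v * c * v⁻¹) = v * ((v⁻¹ * r * v⁻¹⁻¹) * c) * v⁻¹ := by group
        _ = v * (c * (v⁻¹ * r * v⁻¹⁻¹)) * v⁻¹ := by rw [hcU2 _ hr2]
        _ = v * c * v⁻¹ * r := by group
    obtain ⟨e, s, he, hs, hes⟩ := k.n1_decomp hvc
    have hsc : s = c := by
      rw [← k.cen_conj hcR hcc hv]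
      exact (k.prj_eq hs (by rw [hes, mul_inv_cancel_right]; exact k.Z_T he)).symm
    rw [hes, hsc, he.2.2 c (k.R_le_U hcR), inv_mul_cancel_left]
    exact he
  obtain ⟨M, hM⟩ : ∃ M, M = Subgroup.centralizer ({c} : Set G) := ⟨_, rfl⟩
  have hmem : ∀ x, x ∈ M ↔ c * x = x * c := fun x => by
    rw [hM, Subgroup.mem_centralizer_singleton_iff]; exact eq_comm
  have hMtop : M ≠ ⊤ := fun e => hc1 (FaithfulSMul.eq_of_smul_eq_smul (α := Ω) fun d => by
    obtain ⟨g, rfl⟩ := MulAction.exists_smul_eq G a d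
    rw [one_smul, smul_smul, (hmem g).1 (e ▸ Subgroup.mem_top g), mul_smul, fix_a k.nr (k.R_le_U hcR)])
  have hw : w ∈ M := (hmem w).2 (k.w_R c hcR)
  obtain ⟨v, t, -, -, ht, -, -, hZ, hne⟩ := k.seed_sq
  have htR : t⁻¹ ∈ Subgroup.normalizer (rg U b : Set G) := mem_nrm fun x hx => by
    have h1 := step k.nr k.ih hMtop (fun z hz => (hmem z).2 (hz.2.2 c (k.R_le_U hcR)).symm) ⟨⟨w, hw⟩, k.w_a⟩
      (fun g hg hga => by
        obtain ⟨u, hu, e⟩ := k.nr.trans _ hga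
        refine ⟨u, hu, (hmem u).2 ?_, e⟩
        have hcu : c • (u • b) = u • b := by
          rw [e, smul_smul, (hmem g).1 hg, mul_smul, fix_a k.nr (k.R_le_U hcR)]
        have hR2 : u⁻¹ * c * u ∈ rg U b :=
          ⟨U.mul_mem (U.mul_mem (U.inv_mem hu) (k.R_le_U hcR)) hu, by
            show (u⁻¹ * c * u) • b = b
            rw [mul_smul, mul_smul, hcu, inv_smul_smul]⟩
        have h2 := hconj u⁻¹ (inv_mem hu)
        rw [inv_inv] at h2
        have h3 := k.Z_R h2 (mul_mem (inv_mem hcR) hR2)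
        rw [inv_mul_eq_one] at h3
        conv_rhs => rw [h3]
        group)
      hx ((hmem x).2 (hcc x hx)) (mul_mem ((hmem t).2 (hcT t ht)) hw)
    rw [mul_smul, k.w_a] at h1
    rw [inv_inv]
    refine ⟨U.mul_mem (U.mul_mem (U.inv_mem (k.T_U ht)) (k.R_le_U hx)) (k.T_U ht), ?_⟩
    show (t⁻¹ * x * t) • b = b
    rw [mul_smul, mul_smul, h1, inv_smul_smul]
  exact hne (k.T_n1 ht (Subgroup.mem_inf.2 ⟨k.T_U ht, inv_mem_iff.1 htR⟩)).2.1

theorem R_two {y : G} (hy : y ∈ rg U b) : y * y = 1 := by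
  refine k.R_faith (mul_mem hy hy) fun t ht => ?_
  have hyU := k.R_le_U hy
  have hZ := k.U_T hyU ht
  obtain ⟨β, hβ⟩ : ∃ β, β = t⁻¹ * (y * t * y⁻¹) := ⟨_, rfl⟩
  rw [← hβ] at hZ
  have e : y * t * y⁻¹ = t * β := by rw [hβ, mul_inv_cancel_left]
  have e2 : y * y * t * (y * y)⁻¹ = t := by
    calc y * y * t * (y * y)⁻¹ = y * (y * t * y⁻¹) * y⁻¹ := by group
      _ = y * t * (β * y⁻¹) := by rw [e]; group
      _ = y * t * (y⁻¹ * β) := by rw [hZ.2.2 _ (inv_mem hyU)]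
      _ = y * t * y⁻¹ * β := by group
      _ = t := by rw [e, mul_assoc, hZ.2.1, mul_one]
  exact mul_inv_eq_iff_eq_mul.1 e2

theorem R_comm {x y : G} (hx : x ∈ rg U b) (hy : y ∈ rg U b) : x * y = y * x := by
  have h := inv_eq_of_mul_eq_one_right (k.R_two (mul_mem hx hy))
  rw [_root_.mul_inv_rev, inv_eq_of_mul_eq_one_right (k.R_two hx), inv_eq_of_mul_eq_one_right (k.R_two hy)] at h
  exact h.symm

theorem prj_conj' {v u : G} (hv : v ∈ U) (hu : u ∈ U2 U b) : prj U b j (v * u * v⁻¹) = prj U b j u := by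
  rw [k.prj_conj hv hu]
  exact k.cen_conj (k.prj_spec hu).1 (fun y hy => k.R_comm (k.prj_spec hu).1 hy) hv

theorem sq_prj {v v' : G} (hv : v ∈ U) (hv2 : v ∉ U2 U b) (hv' : v' ∈ U) (hv'2 : v' ∉ U2 U b) :
    prj U b j (v * v) = prj U b j (v' * v') := by
  refine k.same (fun x => prj U b j (x * x)) (fun x hx u hu => ?_) (fun g hga hgb hgR x hx => ?_) hv hv2 hv' hv'2
  · show prj U b j (x * u * (x * u)) = prj U b j (x * x)
    have hc : x⁻¹ * u * x⁻¹⁻¹ ∈ U2 U b := k.nrm_U2 (inv_mem hx) hu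
    rw [show x * u * (x * u) = x * x * (x⁻¹ * u * x⁻¹⁻¹ * u) by group, k.prj_mul (k.sq_U2 hx) (mul_mem hc hu),
      k.prj_mul hc hu, k.prj_conj' (inv_mem hx) hu, k.R_two (k.prj_spec hu).1, mul_one]
  · show prj U b j (g * x * g⁻¹ * (g * x * g⁻¹)) = prj U b j (x * x)
    rw [show g * x * g⁻¹ * (g * x * g⁻¹) = g * (x * x) * g⁻¹ by group]
    exact k.prj_inv hga hgb hgR (k.sq_U2 hx)

theorem sq_ne_r {v : G} (hv : v ∈ U) : prj U b j (v * v) ≠ r := by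
  intro e
  obtain ⟨h1, h2⟩ := k.prj_spec (k.sq_U2 hv)
  rw [e] at h2
  have ht : r⁻¹ * (v * v * r⁻¹) * r⁻¹⁻¹ ∈ Tg U b j := k.nrm_T (inv_mem (k.R_le_U k.low.1)) h2
  obtain ⟨x, hx, -, hxd⟩ := k.onto ht
  have e2 : x * r * x⁻¹ = v * v := by rw [k.conj_dl, hxd]; group
  obtain ⟨v', hv'⟩ : ∃ v', v' = x⁻¹ * v * x := ⟨_, rfl⟩
  have hv'U : v' ∈ U := hv' ▸ mul_mem (mul_mem (inv_mem hx) hv) hx
  have hv'2 : v' * v' = r := by
    rw [hv', show x⁻¹ * v * x * (x⁻¹ * v * x) = x⁻¹ * (v * v) * x by group, ← e2]; group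
  have hn : v' ∈ n1 U b := k.cent_nrm k.low hv'U (by rw [← hv'2, mul_assoc])
  obtain ⟨z, y, hz, hy, rfl⟩ := k.n1_decomp hn
  refine k.low.2.2.2 ?_
  rw [← hv'2]
  calc z * y * (z * y) = z * (y * z) * y := by group
    _ = z * (z * y) * y := by rw [hz.2.2 y (k.R_le_U hy)]
    _ = z * z * (y * y) := by group
    _ = 1 := by rw [hz.2.1, k.R_two hy, one_mul]

/-- A subgroup of index two of `U` containing the squares and missing the conjugates of `r`. -/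
theorem exists_L : ∃ L : Subgroup G, L ≤ U ∧ L.relIndex U = 2 ∧ (∀ v ∈ U, v * v ∈ L) ∧
    (∀ t ∈ Tg U b j, t ∈ L) ∧ ∀ t ∈ Tg U b j, r * t ∉ L := by
  classical
  obtain ⟨v₀, hv₀, hv₀2⟩ : ∃ v₀ ∈ U, v₀ ∉ U2 U b := by
    by_contra hc
    push Not at hc
    exact k.U2_ne (le_antisymm inf_le_left fun x hx => hc x hx)
  obtain ⟨c, hc⟩ : ∃ c, c = prj U b j (v₀ * v₀) := ⟨_, rfl⟩
  have hcR : c ∈ rg U b := hc ▸ (k.prj_spec (k.sq_U2 hv₀)).1
  have hcr : c ≠ r := hc ▸ k.sq_ne_r hv₀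
  let L₀ : Subgroup G :=
    { carrier := {u | u ∈ U2 U b ∧ (prj U b j u = 1 ∨ prj U b j u = c)}
      one_mem' := ⟨one_mem _, Or.inl (k.prj_T (one_mem _))⟩
      mul_mem' := fun {x y} hx hy => ⟨mul_mem hx.1 hy.1, by
        rw [k.prj_mul hx.1 hy.1]
        rcases hx.2 with e | e <;> rcases hy.2 with e' | e' <;> rw [e, e']
        · exact Or.inl (one_mul 1)
        · exact Or.inr (one_mul c)
        · exact Or.inr (mul_one c)
        · exact Or.inl (k.R_two hcR)⟩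
      inv_mem' := fun {x} hx => ⟨inv_mem hx.1, by
        have h1 : prj U b j x⁻¹ * prj U b j x = 1 := by
          rw [← k.prj_mul (inv_mem hx.1) hx.1, inv_mul_cancel, k.prj_T (one_mem _)]
        rw [eq_inv_of_mul_eq_one_left h1]
        rcases hx.2 with e | e <;> rw [e]
        · exact Or.inl inv_one
        · exact Or.inr (inv_eq_of_mul_eq_one_right (k.R_two hcR))⟩ }
  have hT : ∀ t ∈ Tg U b j, t ∈ L₀ := fun t ht => ⟨k.T_U2 ht, Or.inl (k.prj_T ht)⟩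
  have hsq : ∀ v ∈ U, v * v ∈ L₀ := fun v hv => ⟨k.sq_U2 hv, by
    by_cases hv2 : v ∈ U2 U b
    · exact Or.inl (by rw [k.prj_mul hv2 hv2, k.R_two (k.prj_spec hv2).1])
    · exact Or.inr (hc ▸ k.sq_prj hv hv2 hv₀ hv₀2)⟩
  have hrL : r ∉ L₀ := fun h => by
    rcases h.2 with e | e <;> rw [k.prj_R k.low.1] at e
    · exact k.low.2.2.2 e
    · exact hcr e.symm
  obtain ⟨L, ⟨hL₀, hLU, hrL'⟩, hmax⟩ := (Set.toFinite {L : Subgroup G | L₀ ≤ L ∧ L ≤ U ∧ r ∉ L}).exists_maximal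
    ⟨L₀, le_rfl, fun x hx => (Subgroup.mem_inf.1 hx.1).1, hrL⟩
  have hrU : r ∈ U := k.R_le_U k.low.1
  have hcomm : ∀ {x y}, x ∈ U → y ∈ U → x * y * x⁻¹ * y⁻¹ ∈ L := fun {x y} hx hy => hL₀ (by
    rw [show x * y * x⁻¹ * y⁻¹ = x * y * (x * y) * (y⁻¹ * x⁻¹ * y * (y⁻¹ * x⁻¹ * y)) * (y⁻¹ * y⁻¹) by group]
    exact mul_mem (mul_mem (hsq _ (mul_mem hx hy))
      (hsq _ (mul_mem (mul_mem (inv_mem hy) (inv_mem hx)) hy))) (hsq _ (inv_mem hy)))
  have hswap : ∀ {x y}, x ∈ U → y ∈ U → y * x ∈ L → x * y ∈ L := fun {x y} hx hy h => by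
    have := mul_mem (hcomm hx hy) h
    rwa [show x * y * x⁻¹ * y⁻¹ * (y * x) = x * y by group] at this
  have hout : ∀ x ∈ U, x ∉ L → x * r ∈ L := by
    intro x hx hxL
    let K : Subgroup G :=
      { carrier := {y | y ∈ U ∧ (y ∈ L ∨ y * x ∈ L)}
        one_mem' := ⟨one_mem _, Or.inl (one_mem _)⟩
        mul_mem' := fun {y z} hy hz => ⟨mul_mem hy.1 hz.1, by
          rcases hy.2 with h1 | h1 <;> rcases hz.2 with h2 | h2
          · exact Or.inl (mul_mem h1 h2)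
          · exact Or.inr (mul_assoc y z x ▸ mul_mem h1 h2)
          · refine Or.inr (hswap (mul_mem hy.1 hz.1) hx ?_)
            rw [← mul_assoc]
            exact mul_mem (hswap hx hy.1 h1) h2
          · refine Or.inl ?_
            have h3 : x * y * (z * x) ∈ L := mul_mem (hswap hx hy.1 h1) h2
            have h4 : y * z * x * x ∈ L := by
              have := hswap (mul_mem (mul_mem hy.1 hz.1) hx) hx
                (by rwa [show x * (y * z * x) = x * y * (z * x) by group])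
              exact this
            have h5 := mul_mem h4 (inv_mem (hL₀ (hsq x hx)))
            rwa [show y * z * x * x * (x * x)⁻¹ = y * z by group] at h5⟩
        inv_mem' := fun {y} hy => ⟨inv_mem hy.1, by
          rcases hy.2 with h1 | h1
          · exact Or.inl (inv_mem h1)
          · refine Or.inr (hswap (inv_mem hy.1) hx ?_)
            have h2 := mul_mem (hL₀ (hsq x hx)) (inv_mem h1)
            rwa [show x * x * (y * x)⁻¹ = x * y⁻¹ by group] at h2⟩ }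
    have hK : L ≤ K := fun y hy => ⟨hLU hy, Or.inl hy⟩
    have hxK : x ∈ K := ⟨hx, Or.inr (hL₀ (hsq x hx))⟩
    by_contra hxr
    refine hxL (hmax ⟨hL₀.trans hK, fun y hy => hy.1, fun hr => ?_⟩ hK hxK)
    rcases hr.2 with h | h
    · exact hrL' h
    · exact hxr (hswap hx hrU h)
  refine ⟨L, hLU, Subgroup.index_eq_two_iff.2 ⟨⟨r, hrU⟩, ?_⟩, fun v hv => hL₀ (hsq v hv),
    fun t ht => hL₀ (hT t ht), fun t ht h => ?_⟩
  · rintro ⟨x, hx⟩
    simp only [Subgroup.mem_subgroupOf, Subgroup.coe_mul]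
    by_cases hxL : x ∈ L
    · exact Or.inr ⟨hxL, fun h => hrL' ((Subgroup.mul_mem_cancel_left _ hxL).1 h)⟩
    · exact Or.inl ⟨hout x hx hxL, hxL⟩
  · exact hrL' ((Subgroup.mul_mem_cancel_right _ (hL₀ (hT t ht))).1 h)

end KC

end Cfsg.Agent.Lie.R1C.Reg
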