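import Cfsg.Agent.Lib.Lie.SplitRankOne.Regular.Fixed

/-!
If some element of `U` fixes two points, `U` is a two-group, and the centraliser of these elements is transitive on
the central involutions.
-/

set_option autoImplicit false
set_option linter.unusedSectionVars false
set_option linter.unusedSimpArgs false
set_option linter.style.haveILetI false

namespace Cfsg.Agent.Lie.R1C.Reg

open Cfsg MulAction

universe u v

variable {G : Type u} {Ω : Type v} [Group G] [MulAction G Ω] [Finite G] {a b : Ω} {U : Subgroup G}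
  (h : NR G Ω a b U)

include h

variable [FaithfulSMul G Ω]

theorem isZ_nrm {x : G} (hx : IsZ U x) : x ∈ Subgroup.normalizer (rg U b : Set G) :=
  mem_nrm fun y hy => by rw [hx.2.2 y hy.1, mul_inv_cancel_right]; exact hy

omit [FaithfulSMul G Ω] in
/-- The points of the orbit of the normalizer are fixed by `rg U b`. -/
theorem nrm_fixes {g y : G} (hg : g ∈ Subgroup.normalizer (rg U b : Set G)) (hy : y ∈ rg U b) :
    y • (g • a) = g • a := by
  have h1 := fix_a h (nrm_conj' hg hy).1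
  rwa [mul_smul, mul_smul, inv_smul_eq_iff] at h1

omit [FaithfulSMul G Ω] in
theorem nrm_trans {g : G} (hg : g ∈ Subgroup.normalizer (rg U b : Set G)) (hga : g • a ≠ a) :
    ∃ u ∈ U, u ∈ Subgroup.normalizer (rg U b : Set G) ∧ u • b = g • a := by
  obtain ⟨u, hu, e⟩ := h.trans _ hga
  refine ⟨u, hu, ?_, e⟩
  have : u⁻¹ ∈ Subgroup.normalizer (rg U b : Set G) := mem_nrm fun y hy =>
    ⟨U.mul_mem (U.mul_mem (U.inv_mem hu) hy.1) (U.inv_mem (U.inv_mem hu)), by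
      show (u⁻¹ * y * u⁻¹⁻¹) • b = b
      rw [inv_inv, mul_smul, mul_smul, e, nrm_fixes h hg hy, ← e, inv_smul_smul]⟩
  simpa using inv_mem this

/-- The consequences of the classification for the normalizer of `rg U b`. -/
theorem nrm_data (IH : Triv.{u, v} (Nat.card G)) :
    (∀ u ∈ U, u ∈ Subgroup.normalizer (rg U b : Set G) → ∃ k : ℕ, u ^ 2 ^ k ∈ rg U b) ∧
      ∀ e e' : G, IsZ U e → e ≠ 1 → IsZ U e' → e' ≠ 1 →
        ∃ k : G, k • a = a ∧ k • b = b ∧ (∀ y ∈ rg U b, k * y = y * k) ∧ k * e * k⁻¹ = e' := by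
  classical
  haveI := h.pre
  obtain ⟨M, hMdef⟩ : ∃ M, M = Subgroup.normalizer (rg U b : Set G) := ⟨_, rfl⟩
  obtain ⟨w, z₀, hz₀, hz₀1, hw, hwa, hwb, hcw⟩ := exists_w h
  have hwR : ∀ y ∈ rg U b, y * w = w * y := fun y hy => comm_w h IH hz₀ hz₀1 hw hwa hwb hcw hy
  have hwM : w ∈ M := hMdef ▸ mem_nrm fun y hy => by rw [← hwR y hy, mul_inv_cancel_right]; exact hy
  obtain ⟨z, z', hz, hz', hz1, hz'1, hne⟩ := exists_pair h
  have hb : b ∈ orbit M a := ⟨⟨w, hwM⟩, hwa⟩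
  have hzb : ∀ {x}, IsZ U x → x ≠ 1 → x • b ≠ b := fun hx hx1 e => h.ne (isZ_fix h hx hx1 e).symm
  have h3 : z • b ≠ z' • b := fun e => hne (by
    have hz'i : z'⁻¹ = z' := inv_eq_of_mul_eq_one_right hz'.2.1
    have := semireg h (mul_mem (inv_mem hz'.1) hz.1) (fun u hu => by
      rw [mul_assoc, hz.2.2 u hu, ← mul_assoc, hz'i, hz'.2.2 u hu, mul_assoc]) h.ne.symm (c := b)
      (by rw [mul_smul, e, inv_smul_smul])
    exact (inv_mul_eq_one.1 this).symm)
  have hN := restrict h (hMdef ▸ isZ_nrm h hz) (hMdef ▸ isZ_nrm h hz') hz hz' (hzb hz hz1) (hzb hz' hz'1) h3 hb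
    (fun g hg hga => by subst hMdef; exact nrm_trans h hg hga)
  obtain ⟨K, hK⟩ : ∃ K, K = (toPermHom M (orbit M a)).ker := ⟨_, rfl⟩
  letI : MulAction (M ⧸ (toPermHom M (orbit M a)).ker) (orbit M a) :=
    MulAction.compHom (orbit M a) (QuotientGroup.kerLift (toPermHom M (orbit M a)))
  haveI : FaithfulSMul (M ⧸ (toPermHom M (orbit M a)).ker) (orbit M a) := ⟨fun {g g'} e =>
    QuotientGroup.kerLift_injective _ (Equiv.ext e)⟩
  have hsm : ∀ (g : M) (c : orbit M a),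
      (((QuotientGroup.mk g : M ⧸ (toPermHom M (orbit M a)).ker) • c : orbit M a) : Ω) = (g : G) • (c : Ω) :=
    fun _ _ => rfl
  have hker : ∀ g : M, g ∈ (toPermHom M (orbit M a)).ker → ∀ c : orbit M a, (g : G) • (c : Ω) = c := fun g hg c =>
    congrArg Subtype.val (DFunLike.congr_fun (MonoidHom.mem_ker.1 hg) c)
  obtain ⟨t, ht, hc⟩ := ctx (quot hN) (by
    rintro _ ⟨x, hx, rfl⟩ hxb
    refine (QuotientGroup.eq_one_iff x).2 (MonoidHom.mem_ker.2 (Equiv.ext fun c => Subtype.ext ?_))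
    obtain ⟨g, hg⟩ := c.2
    show (x : G) • (c : Ω) = c
    rw [← hg]
    exact nrm_fixes h (hMdef ▸ g.2) ⟨hx, (hsm x _).symm.trans (congrArg Subtype.val hxb)⟩)
  have h2 := allTwo (Nat.card _ + 1) _ _ _ _ _ (Nat.lt_succ_self _) hc
  refine ⟨fun u hu huM => ?_, fun e e' he he1 he' he'1 => ?_⟩
  · rw [← hMdef] at huM
    obtain ⟨k, hk⟩ := h2 ⟨_, Subgroup.mem_map_of_mem _ (show (⟨u, huM⟩ : M) ∈ U.subgroupOf M from hu)⟩
    exact ⟨k, pow_mem hu _,
      hker _ ((QuotientGroup.eq_one_iff _).1 (congrArg Subtype.val hk)) ⟨b, hb⟩⟩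
  -- every involution of the quotient comes from the centraliser of `rg U b`
  have hmem : ∀ {x : G} (hx : IsZ U x) (hx1 : x ≠ 1),
      (QuotientGroup.mk (⟨x, hMdef ▸ isZ_nrm h hx⟩ : M) : M ⧸ (toPermHom M (orbit M a)).ker) ≠ 1 ∧
        (QuotientGroup.mk (⟨x, hMdef ▸ isZ_nrm h hx⟩ : M) : M ⧸ (toPermHom M (orbit M a)).ker) *
          QuotientGroup.mk ⟨x, hMdef ▸ isZ_nrm h hx⟩ = 1 := by
    intro x hx hx1
    refine ⟨fun h1 => hzb hx hx1 (hker _ ((QuotientGroup.eq_one_iff _).1 h1) ⟨b, hb⟩), ?_⟩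
    rw [← QuotientGroup.mk_mul, show (⟨x, hMdef ▸ isZ_nrm h hx⟩ : M) * ⟨x, hMdef ▸ isZ_nrm h hx⟩ = 1 from
      Subtype.ext hx.2.1, QuotientGroup.mk_one]
  obtain ⟨C, hC⟩ : ∃ C, C = Subgroup.centralizer (rg U b : Set G) := ⟨_, rfl⟩
  have hzC : ∀ {x}, IsZ U x → x ∈ C := fun hx => hC ▸ Subgroup.mem_centralizer_iff.2 fun y hy =>
    (hx.2.2 y (Subgroup.mem_inf.1 hy).1).symm
  have hlift : ∀ x : M ⧸ (toPermHom M (orbit M a)).ker, x ≠ 1 → x * x = 1 →
      ∃ g : M, (g : G) ∈ C ∧ QuotientGroup.mk g = x := by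
    intro x hx1 hx2
    obtain ⟨g, hg⟩ := isConj_iff.1 (R1.conj_all hc.hS (hmem he he1).1 (hmem he he1).2 hx1 hx2)
    obtain ⟨g, rfl⟩ := QuotientGroup.mk_surjective g
    refine ⟨g * ⟨e, hMdef ▸ isZ_nrm h he⟩ * g⁻¹, ?_, by simpa using hg⟩
    subst hC
    refine Subgroup.mem_centralizer_iff.2 fun y hy => ?_
    have h1 := Subgroup.mem_centralizer_iff.1 (hzC he) _
      (SetLike.mem_coe.2 (nrm_conj' (by rw [← hMdef]; exact g.2) (SetLike.mem_coe.1 hy)))
    calc y * ((g : G) * e * (g : G)⁻¹) = (g : G) * ((g : G)⁻¹ * y * g * e) * (g : G)⁻¹ := by group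
      _ = (g : G) * (e * ((g : G)⁻¹ * y * g)) * (g : G)⁻¹ := by rw [h1]
      _ = (g : G) * e * (g : G)⁻¹ * y := by group
  have hzg : ∀ {x : G} (hx : IsZ U x) (hx1 : x ≠ 1),
      (QuotientGroup.mk (⟨x, hMdef ▸ isZ_nrm h hx⟩ : M) : M ⧸ (toPermHom M (orbit M a)).ker) ∈
        zg (M ⧸ (toPermHom M (orbit M a)).ker) (⟨a, mem_orbit_self a⟩ : orbit M a) := fun hx hx1 =>
    hc.mem_zg_of_sq (Subtype.ext ((hsm _ _).trans (fix_a h hx.1))) (hmem hx hx1).2
  obtain ⟨k, hk, hke⟩ := hc.kg_trans (hzg he he1) (hmem he he1).1 (hzg he' he'1) (hmem he' he'1).1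
  have hkD := Subgroup.mem_inf.1 (hc.kg_le hk)
  obtain ⟨g₁, hg₁, e₁⟩ := hlift t hc.hS.ne_one hc.hS.mul_self
  obtain ⟨g₂, hg₂, e₂⟩ := hlift (t * k) (fun e0 => hc.hS.not_mem (by
    rw [show t = k⁻¹ from eq_inv_of_mul_eq_one_left e0]; exact inv_mem hkD.1))
    (by rw [show t * k * (t * k) = (t * k * t) * k by group, hc.kg_inv hk, inv_mul_cancel])
  have hmk : QuotientGroup.mk (g₁ * g₂) = k := by
    rw [QuotientGroup.mk_mul, e₁, e₂, ← mul_assoc, hc.hS.mul_self, one_mul]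
  have hka : ((g₁ * g₂ : M) : G) • a = a := by
    have := congrArg Subtype.val (show k • (⟨a, mem_orbit_self a⟩ : orbit M a) = _ from hkD.1)
    rw [← hmk] at this
    exact (hsm _ _).symm.trans this
  have hkb : ((g₁ * g₂ : M) : G) • b = b := by
    have h1 : k • (⟨b, hb⟩ : orbit M a) = ⟨b, hb⟩ := ht ▸ hkD.2
    rw [← hmk] at h1
    exact (hsm _ _).symm.trans (congrArg Subtype.val h1)
  refine ⟨_, hka, hkb, fun y hy => ?_, ?_⟩
  · subst hC
    exact (Subgroup.mem_centralizer_iff.1 (mul_mem hg₁ hg₂) y (SetLike.mem_coe.2 hy)).symm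
  · have hZk := isZ_conj h he hka
    have h1 : (((g₁ * g₂ : M) : G) * e * ((g₁ * g₂ : M) : G)⁻¹) • b = e' • b := by
      have h0 := congrArg (fun q => ((q • (⟨b, hb⟩ : orbit M a) : orbit M a) : Ω)) hke
      rw [← hmk, ← QuotientGroup.mk_mul, ← QuotientGroup.mk_inv, ← QuotientGroup.mk_mul] at h0
      exact (hsm _ ⟨b, hb⟩).symm.trans (h0.trans (hsm _ _))
    have h2' := semireg h (mul_mem (inv_mem he'.1) hZk.1) (fun u hu => by
      rw [inv_eq_of_mul_eq_one_right he'.2.1, mul_assoc, hZk.2.2 u hu, ← mul_assoc, he'.2.2 u hu, mul_assoc])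
      h.ne.symm (c := b) (by rw [mul_smul, h1, inv_smul_smul])
    exact (inv_mul_eq_one.1 h2').symm

/-- `U` is a two-group. -/
theorem two_group (IH : Triv.{u, v} (Nat.card G)) : IsPGroup 2 U := by
  classical
  haveI := h.pre
  haveI := Fact.mk Nat.prime_two
  obtain ⟨S, V, hSV⟩ := exists_psplit h.nil Nat.prime_two
  have hVodd : Odd (Nat.card V) := Nat.not_even_iff_odd.1 fun e => hSV.U_coprime (even_iff_two_dvd.1 e)
  have hpow : ∀ {v : G}, v ∈ V → ∀ {k : ℕ}, v ^ 2 ^ k ∈ rg U b → v ∈ rg U b := by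
    intro v hv k hk
    obtain ⟨i, hi⟩ := exists_pow_eq_self_of_coprime (x := v) (n := 2 ^ k)
      (Nat.Coprime.pow_left _ (Nat.coprime_two_left.2 (hVodd.of_dvd_nat (Subgroup.orderOf_dvd_natCard V hv))))
    exact hi ▸ pow_mem hk i
  have hVR : V ≤ rg U b := by
    by_contra hle
    haveI := h.nil
    haveI : Group.IsNilpotent V := Group.nilpotent_of_mulEquiv (Subgroup.subgroupOfEquivOfLe hSV.U_le)
    have hlt : (rg U b).subgroupOf V < ⊤ := lt_top_iff_ne_top.2 fun e => hle (Subgroup.subgroupOf_eq_top.1 e)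
    have hn := Group.normalizerCondition_of_isNilpotent ((rg U b).subgroupOf V) hlt
    obtain ⟨v, hv, hvn⟩ := SetLike.exists_of_lt hn
    refine hvn (Subgroup.mem_subgroupOf.2 ?_)
    obtain ⟨k, hk⟩ := (nrm_data h IH).1 v (hSV.U_le v.2) (mem_nrm fun y hy => by
      obtain ⟨s, hs, x, hx, rfl⟩ := hSV.decomp y hy.1
      obtain ⟨i, hi⟩ := hSV.S_pgroup ⟨s, hs⟩
      have hi' : s ^ 2 ^ i = 1 := congrArg Subtype.val hi
      have hxR : x ∈ rg U b := hpow hx (k := i) (by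
        have := pow_mem hy (2 ^ i)
        rwa [(show Commute s x from hSV.comm s hs x hx).mul_pow, hi', one_mul] at this)
      have hsR : s ∈ rg U b := by
        have := mul_mem hy (inv_mem hxR)
        rwa [mul_inv_cancel_right] at this
      have h1 := nrm_conj hv (Subgroup.mem_subgroupOf.2 hxR : (⟨x, hx⟩ : V) ∈ (rg U b).subgroupOf V)
      rw [show (v : G) * (s * x) * (v : G)⁻¹ = ((v : G) * s * (v : G)⁻¹) * ((v : G) * x * (v : G)⁻¹) by group,
        ← hSV.comm s hs v v.2, mul_inv_cancel_right]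
      exact mul_mem hsR h1)
    exact hpow v.2 hk
  have hV1 : ∀ v ∈ V, v = 1 := fun v hv => FaithfulSMul.eq_of_smul_eq_smul (α := Ω) fun c => by
    rw [one_smul]
    by_cases hc : c = a
    · rw [hc]; exact fix_a h (hSV.U_le hv)
    obtain ⟨u, hu, rfl⟩ := h.trans c hc
    obtain ⟨s, hs, x, hx, rfl⟩ := hSV.decomp u hu
    have h1 := (hVR (mul_mem (mul_mem (inv_mem hx) hv) hx)).2
    have e : v * (s * x) = s * x * (x⁻¹ * v * x) := by
      rw [← mul_assoc, ← hSV.comm s hs v hv]; group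
    rw [smul_smul, e, mul_smul]
    exact congrArg _ h1
  intro x
  obtain ⟨s, hs, v, hv, e⟩ := hSV.decomp x x.2
  obtain ⟨k, hk⟩ := hSV.S_pgroup ⟨s, hs⟩
  refine ⟨k, Subtype.ext ?_⟩
  rw [SubgroupClass.coe_pow, e, hV1 v hv, mul_one]
  exact congrArg Subtype.val hk

end Cfsg.Agent.Lie.R1C.Reg
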